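import Cfsg.Agent.Lib.Classical.DecompMax.Blocks

/-!
# Overgroups of the monomial group in dimension at least four: elements fixing an axis

The arguments of `DecompMax.Mono`, with the bound on the dimension lowered to four.
-/

set_option autoImplicit false
set_option linter.unusedSectionVars false
set_option linter.unusedSimpArgs false

namespace CfsgLib.Classical.GeoFour

open Matrix DecompMax

variable {ι : Type*} [Fintype ι] [DecidableEq ι] {F : Type*} [Field F]

theorem exists_notMem_four (T : Finset ι) (hT : T.card < Fintype.card ι) : ∃ l, l ∉ T := by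
  obtain ⟨l, -, hl⟩ := Finset.exists_mem_notMem_of_card_lt_card (s := T) (t := Finset.univ)
    (by rw [Finset.card_univ]; omega)
  exact ⟨l, hl⟩

variable [Fintype F] {S : Set (Matrix ι ι F)} (hS : MonOver S) (h5 : 5 ≤ Fintype.card F) (hn : 4 ≤ Fintype.card ι)

include hS h5 hn in
theorem hasTv_of_row {r : ι} {σ : ι → F} (hσr : σ r = 0) (hσ : σ ≠ 0) (h : tv (Pi.single r 1) σ ∈ S) : HasTv S := by
  obtain ⟨k, hk⟩ := Function.ne_iff.1 hσ
  simp only [Pi.zero_apply] at hk
  have hkr : k ≠ r := fun e => hk (e ▸ hσr)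
  obtain ⟨μ, hμ0, hμ1, -, -⟩ := exists_avoid h5 1 1 1
  have hμ : μ⁻¹ - 1 ≠ 0 := sub_ne_zero.2 (inv_eq_one.not.2 hμ1)
  obtain ⟨l, hl⟩ := exists_notMem_four ({r, k} : Finset ι) (Finset.card_le_two.trans_lt (by omega))
  simp only [Finset.mem_insert, Finset.mem_singleton, not_or] at hl
  have h1 := tv_axis_scale hS hσr (prod_sc (Ne.symm hl.2) hμ0) (sc_ne_zero hμ0)
    (by simp [sc, hkr.symm, Ne.symm hl.1]) h
  obtain ⟨l', hl'⟩ := exists_notMem_four ({r, k, l} : Finset ι) (Finset.card_le_three.trans_lt (by omega))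
  simp only [Finset.mem_insert, Finset.mem_singleton, not_or] at hl'
  have h2 := tv_axis_scale hS (by simp [hσr]) (prod_sc (Ne.symm hl'.2.1) hμ0) (sc_ne_zero hμ0)
    (by simp [sc, hkr.symm, Ne.symm hl'.1]) h1
  refine ⟨r, k, (μ⁻¹ - 1) * (μ⁻¹ - 1) * σ k, hkr.symm, mul_ne_zero (mul_ne_zero hμ hμ) hk, ?_⟩
  convert h2 using 1
  rw [transvection_eq_tv]
  ext i j
  simp only [tv_apply, Pi.single_apply]
  by_cases hi : i = r
  swap
  · simp [hi]
  by_cases hj : j = k
  · subst hj; simp [hi, sc]; ring
  by_cases hj' : j = l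
  · subst hj'; simp [hi, sc, hj, Ne.symm hl'.2.2]
  by_cases hj'' : j = l'
  · subst hj''; simp [hi, sc, hj, hj']
  simp [hi, sc, hj, hj', hj'']

include hS h5 hn in
theorem hasTv_of_win {r : ι} (h : Win (DecompMax.axisImage S r) r) : HasTv S := by
  obtain ⟨s, t, c, hsr, htr, hst, hc, x, hx, hcx, hpx⟩ := h
  set X := transvection s t c with hX
  set X' := transvection s t (-c) with hX'
  have hXX : X * X' = 1 := by rw [hX, hX', transvection_mul_transvection_same _ _ hst, add_neg_cancel, transvection_zero]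
  have hXX' : X' * X = 1 := by rw [hX, hX', transvection_mul_transvection_same _ _ hst, neg_add_cancel, transvection_zero]
  have hcX : AxisCol r X' := fun i hi => by simp [hX', transvection, Matrix.one_apply_ne hi, htr]
  have hpX : proj r X = X := by
    ext i j
    by_cases hi : i = r
    · subst hi; simp [proj_apply, hX, transvection, hsr]
    by_cases hj : j = r
    · subst hj; simp [proj_apply, hX, transvection, htr]
    simp [proj_apply, hi, hj]
  have hpX' : proj r X' = X' := by
    ext i j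
    by_cases hi : i = r
    · subst hi; simp [proj_apply, hX', transvection, hsr]
    by_cases hj : j = r
    · subst hj; simp [proj_apply, hX', transvection, htr]
    simp [proj_apply, hi, hj]
  obtain ⟨σ, hσr, hσ⟩ := eq_tv_of_proj (hcx.mul hcX) (by rw [proj_mul hcx, hpx, hpX', hXX])
    (by rw [det_mul, hS.det_eq hx, hX', det_transvection_of_ne _ _ hst, mul_one])
  have hxe : x = tv (Pi.single r 1) σ * X := by rw [← hσ, mul_assoc, hXX', mul_one]
  by_cases hσ0 : σ = 0
  · refine ⟨s, t, c, hst, hc, ?_⟩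
    have e : tv (Pi.single r (1 : F)) (0 : ι → F) = 1 := by ext i j; simp [tv_apply]
    rw [hσ0, e, one_mul] at hxe
    show X ∈ S
    rw [← hxe]; exact hx
  obtain ⟨k, hk⟩ := Function.ne_iff.1 hσ0
  simp only [Pi.zero_apply] at hk
  have hkr : k ≠ r := fun e => hk (e ▸ hσr)
  obtain ⟨μ, hμ0, hμ1, -, -⟩ := exists_avoid h5 1 1 1
  obtain ⟨d, hd, hd0, hdr, hdst, hdk⟩ : ∃ d : ι → F, ∏ q, d q = 1 ∧ (∀ q, d q ≠ 0) ∧ d r = 1 ∧ d s = d t ∧ d k ≠ 1 := by
    by_cases hkst : k = s ∨ k = t
    · obtain ⟨l, hl⟩ := exists_notMem_four ({r, s, t} : Finset ι) (Finset.card_le_three.trans_lt (by omega))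
      simp only [Finset.mem_insert, Finset.mem_singleton, not_or] at hl
      obtain ⟨hlr, hls, hlt⟩ := hl
      refine ⟨fun q => if q = s ∨ q = t then μ else if q = l then (μ * μ)⁻¹ else 1, ?_, fun q => ?_, ?_, ?_, ?_⟩
      · rw [← Finset.prod_subset (Finset.subset_univ ({s, t, l} : Finset ι)) (fun x _ hx => by
          simp only [Finset.mem_insert, Finset.mem_singleton, not_or] at hx; simp [hx.1, hx.2.1, hx.2.2]),
          Finset.prod_insert (by simp [hst, Ne.symm hls]), Finset.prod_insert (by simp [Ne.symm hlt]),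
          Finset.prod_singleton]
        simp [hls, hlt]
        field_simp
      · dsimp only; split_ifs <;> simp [hμ0]
      · simp [hsr.symm, htr.symm, Ne.symm hlr]
      · simp
      · simp [hkst, hμ1]
    · push Not at hkst
      obtain ⟨ν, hν0, hν1, hνn, -⟩ := exists_avoid h5 1 (-1) 1
      have hν2 : (ν * ν)⁻¹ ≠ 1 := by
        rw [ne_eq, inv_eq_one]
        intro h
        rcases mul_self_eq_one_iff.1 h with e | e
        exacts [hν1 e, hνn e]
      refine ⟨fun q => if q = s ∨ q = t then ν else if q = k then (ν * ν)⁻¹ else 1, ?_, fun q => ?_, ?_, ?_, ?_⟩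
      · rw [← Finset.prod_subset (Finset.subset_univ ({s, t, k} : Finset ι)) (fun x _ hx => by
          simp only [Finset.mem_insert, Finset.mem_singleton, not_or] at hx; simp [hx.1, hx.2.1, hx.2.2]),
          Finset.prod_insert (by simp [hst, Ne.symm hkst.1]), Finset.prod_insert (by simp [Ne.symm hkst.2]),
          Finset.prod_singleton]
        simp [hkst.1, hkst.2]
        field_simp
      · dsimp only; split_ifs <;> simp [hν0]
      · simp [hsr.symm, htr.symm, hkr.symm]
      · simp
      · simp only [hkst.1, hkst.2, or_self, if_false, if_true]; exact hν2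
  set D := mon (1 : Equiv.Perm ι) d
  set D' := mon (1 : Equiv.Perm ι).symm (fun p => (d ((1 : Equiv.Perm ι).symm p))⁻¹)
  have hDD : D * D' = 1 := mon_mul_inv 1 hd0
  have hDD' : D' * D = 1 := mon_inv_mul 1 hd0
  have hDX : D * X * D' = X := by
    rw [hX, transvection_eq_tv, mon_conj_tv 1 hd0]
    ext i j
    simp only [tv_apply, mvec, mcov, one_symm_apply, Pi.single_apply]
    by_cases hi : i = s <;> by_cases hj : j = t <;> simp [hi, hj, hst, hst.symm]
    rw [hdst]; field_simp [hd0 t]
  obtain ⟨x', hx', hxx', -⟩ := hS.closed.inv hx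
  have hmem := hS.closed.mul (hS.closed.conj (hS.diag_mem hd) hDD hx) hx'
  have hr0 : σ ⬝ᵥ Pi.single r 1 = 0 := by rw [dotProduct_single, hσr, zero_mul]
  have hxi : x' = X' * tv (-Pi.single r 1) σ := by
    have e : x * (X' * tv (-Pi.single r 1) σ) = 1 := by
      rw [hxe, ← mul_assoc, mul_assoc (tv _ _), hXX, mul_one, tv_mul_neg _ _ hr0]
    obtain ⟨x'', -, -, h''⟩ := hS.closed.inv hx
    calc x' = (x'' * x) * x' := by rw [h'', one_mul]
      _ = x'' := by rw [mul_assoc, hxx', mul_one]
      _ = x'' * (x * (X' * tv (-Pi.single r 1) σ)) := by rw [e, mul_one]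
      _ = _ := by rw [← mul_assoc, h'', one_mul]
  have ecalc : D * x * D' * x' = tv (Pi.single r 1) (mcov 1 d σ + -σ) := by
    have e1 : D * x * D' = tv (mvec 1 d (Pi.single r 1)) (mcov 1 d σ) * X := by
      have r1 : D * tv (Pi.single r 1) σ * D' = tv (mvec 1 d (Pi.single r 1)) (mcov 1 d σ) := mon_conj_tv 1 hd0 _ _
      calc D * x * D' = (D * tv (Pi.single r 1) σ * D') * (D * X * D') := by
            rw [hxe]; simp only [mul_assoc]; rw [← mul_assoc D' D, hDD', one_mul]
        _ = _ := by rw [r1, hDX]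
    have ev : mvec 1 d (Pi.single r (1 : F)) = Pi.single r 1 := by
      funext p
      by_cases hp : p = r
      · subst hp; simp [mvec, hdr]
      · simp [mvec, hp]
    rw [e1, hxi, ev, mul_assoc, ← mul_assoc X X', hXX, one_mul,
      ← neg_one_smul F (Pi.single r (1 : F) : ι → F), tv_smul, neg_one_smul,
      tv_mul_same_left _ _ _ (by rw [dotProduct_single]; simp [mcov, hσr])]
  rw [ecalc] at hmem
  refine hasTv_of_row hS h5 hn (by simp [mcov, hσr]) (fun e => hdk ?_) hmem
  have := congrFun e k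
  simp only [Pi.add_apply, Pi.neg_apply, mcov, one_symm_apply, Pi.zero_apply] at this
  field_simp [hd0 k] at this
  have h' : σ k * (1 - d k) = 0 := by linear_combination this
  exact (sub_eq_zero.1 ((mul_eq_zero.1 h').resolve_left hk)).symm

include hS h5 hn in
/-- The machine: a non-monomial element fixing an axis. -/
theorem hasTv_of_axisCol {r : ι} {y : Matrix ι ι F} (hy : y ∈ S) (hcy : AxisCol r y) (hmon : ¬ IsMon y) : HasTv S := by
  obtain ⟨z, hz, hyz, hzy⟩ := hS.closed.inv hy
  have hG := hS.axisImage r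
  set A := proj r y
  set B := proj r z
  have hAB : A * B = 1 := by rw [← proj_mul hcy, hyz, proj_one]
  have hBA : B * A = 1 := by rw [← proj_mul (hcy.inverse hzy), hzy, proj_one]
  have hAG : A ∈ DecompMax.axisImage S r := ⟨y, hy, hcy, rfl⟩
  by_cases hA : IsMon A
  · obtain ⟨σ, d, hd, hAe⟩ := hA.exists_eq hAB hBA
    have hAr : A r r = 1 := by simp [A, proj_apply]
    have hσ : σ r = r := by
      by_contra hne
      rw [hAe, mon_apply, if_neg (Ne.symm hne)] at hAr
      exact zero_ne_one hAr
    have hdr : d r = 1 := by rwa [hAe, mon_apply, if_pos hσ.symm] at hAr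
    have hs : σ.symm r = r := by rw [Equiv.symm_apply_eq, hσ]
    obtain ⟨x, hw, hcw, hpw⟩ := hS.lift_mon (σ := σ.symm) (d := fun p => (d (σ.symm p))⁻¹) hs (by simp [hs, hdr])
      (fun q => inv_ne_zero (hd _))
    set w := mon σ.symm (Function.update (fun p => (d (σ.symm p))⁻¹) r x)
    have hp1 : proj r (y * w) = 1 := by rw [proj_mul hcy, hpw, show proj r y = mon σ d from hAe, mon_mul_inv σ hd]
    obtain ⟨τ, hτr, hτ⟩ := eq_tv_of_proj (hcy.mul hcw) hp1 (hS.det_eq (hS.closed.mul hy hw))
    refine hasTv_of_row hS h5 hn hτr (fun h0 => hmon ?_) (hτ ▸ hS.closed.mul hy hw)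
    have hyw : y * w = 1 := by rw [hτ, h0]; ext i j; simp [tv_apply]
    exact (isMon_mon _ _).of_inverse (mul_eq_one_comm.1 hyw) hyw
  obtain ⟨p, p', q, hp, hp', hpp⟩ : ∃ p p' q, A p q ≠ 0 ∧ A p' q ≠ 0 ∧ p ≠ p' := by
    unfold IsMon at hA; push Not at hA; exact hA
  have hqr : q ≠ r := fun h => hpp (by
    subst h
    exact (by_contra fun hh => hp (by simp [A, proj_apply, hh]) : p = q).trans
      (by_contra fun hh => hp' (by simp [A, proj_apply, hh]) : p' = q).symm)
  have hrow : A r q = 0 := by simp [A, proj_apply, Matrix.one_apply_ne hqr.symm]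
  let u : ι → F := fun i => A i q
  let φ : ι → F := fun j => B q j
  have hu : A *ᵥ Pi.single q 1 = u := by funext i; simp [u]
  have hφ : Pi.single q 1 ᵥ* B = φ := by funext j; simp [φ]
  have hHom : Hom (DecompMax.axisImage S r) r u φ := by
    refine ⟨?_, hrow, by simp [φ, B, proj_apply, Matrix.one_apply_ne hqr], fun l hl => ?_⟩
    · have := congrFun (congrFun hBA q) q
      rw [Matrix.one_apply_eq, mul_apply] at this
      exact this
    · have e : mon (1 : Equiv.Perm ι) (Function.update 1 q l) = tv ((l - 1) • Pi.single q 1) (Pi.single q 1) := by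
        ext i j
        simp only [mon_apply, tv_apply, Equiv.Perm.one_apply, Pi.smul_apply, Pi.single_apply]
        by_cases hj : j = q <;> by_cases hi : i = j <;> simp [hi, hj, Matrix.one_apply]
        all_goals simp_all
      have hmem := hG.closed.conj hAG hAB (hG.mon_mem 1 (Function.update 1 q l) rfl (by simp [hqr.symm])
        (fun k => by by_cases hk : k = q <;> simp [hk, hl]))
      rwa [e, tv_conj hAB, mulVec_smul, hu, hφ] at hmem
  exact hasTv_of_win hS h5 hn (win_of_hom h5 hG (by omega) hHom hpp hp hp')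

include hS h5 hn in
theorem hasTv_of_column {r s : ι} {y : Matrix ι ι F} (hy : y ∈ S) (hmon : ¬ IsMon y)
    (hcol : ∀ i, i ≠ r → y i s = 0) : HasTv S := by
  by_cases hrs : r = s
  · subst hrs; exact hasTv_of_axisCol hS h5 hn hy hcol hmon
  let d : ι → F := Function.update 1 r (-1)
  have hd : ∀ q, d q ≠ 0 := fun q => by by_cases hq : q = r <;> simp [d, hq]
  have hm : mon (Equiv.swap r s) d ∈ S := hS.mon_mem _ _ (by
    rw [det_mon, Equiv.Perm.sign_swap hrs, Finset.prod_update_of_mem (Finset.mem_univ r)]; simp)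
  refine hasTv_of_axisCol hS h5 hn (r := r) (hS.closed.mul hy hm) (fun i hi => ?_) (fun h => hmon ?_)
  · rw [mul_mon_apply, Equiv.swap_apply_left, hcol i hi, zero_mul]
  · have := h.mul_mon (Equiv.swap r s).symm (fun p => (d ((Equiv.swap r s).symm p))⁻¹)
    rwa [mul_assoc, mon_mul_inv _ hd, mul_one] at this

end CfsgLib.Classical.GeoFour
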