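import Mathlib.FieldTheory.Finite.Basic

/-!
# Four vectors with coordinate sum zero and prescribed product modulo fourth powers

The vectors are `(z, 1 - z, -w, w - 1)`, with product `z (1 - z) w (1 - w)`.
-/

set_option autoImplicit false

namespace CfsgLib.Classical.GeoFour

variable {F : Type*} [Field F] [Fintype F]

/-- The product of the coordinates, up to the class modulo fourth powers. -/
def Sol (κ : F) (p : F × F) : Prop :=
  p.1 ≠ 0 ∧ p.1 ≠ 1 ∧ p.2 ≠ 0 ∧ p.2 ≠ 1 ∧ ∃ t : F, t ≠ 0 ∧ p.1 * (1 - p.1) * (p.2 * (1 - p.2)) = κ * t ^ 4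

omit [Fintype F] in
theorem Sol.flip_fst {κ z w : F} (h : Sol κ (z, w)) : Sol κ (1 - z, w) := by
  obtain ⟨a, b, c, d, t, ht, e⟩ := h
  refine ⟨sub_ne_zero.2 (Ne.symm b), fun h => a (by linear_combination -h), c, d, t, ht, ?_⟩
  rw [← e]; ring

omit [Fintype F] in
theorem Sol.swap {κ z w : F} (h : Sol κ (z, w)) : Sol κ (w, z) := by
  obtain ⟨a, b, c, d, t, ht, e⟩ := h
  exact ⟨c, d, a, b, t, ht, by rw [← e]; ring⟩

omit [Fintype F] in
theorem Sol.flip_snd {κ z w : F} (h : Sol κ (z, w)) : Sol κ (z, 1 - w) := h.swap.flip_fst.swap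

theorem exists_ne_of_card [DecidableEq F] (T : Finset F) (h : T.card < Fintype.card F) : ∃ x, x ∉ T := by
  obtain ⟨x, -, hx⟩ := Finset.exists_mem_notMem_of_card_lt_card (s := T) (t := Finset.univ)
    (by rwa [Finset.card_univ])
  exact ⟨x, hx⟩

/-- For odd order the values `z (1 - z)` do not fill up a union of cosets of the fourth powers. -/
theorem exists_solution (h7 : 7 ≤ Fintype.card F) (h2 : (2 : F) ≠ 0) {κ : F} (hκ : κ ≠ 0) :
    ∃ z w : F, Sol κ (z, w) := by
  classical
  let f : F → F := fun z => z * (1 - z)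
  let D : Finset F := Finset.univ \ {0, 1}
  let V := D.image f
  set hf : F := 2⁻¹ with hhf
  have hD : ∀ z : F, z ∈ D ↔ z ≠ 0 ∧ z ≠ 1 := fun z => by simp [D]
  have hsum_all : ∑ z : F, f z = 0 := by
    have e1 : ∑ z : F, z ^ 1 = 0 := FiniteField.sum_pow_lt_card_sub_one F 1 (by omega)
    have e2 : ∑ z : F, z ^ 2 = 0 := FiniteField.sum_pow_lt_card_sub_one F 2 (by omega)
    calc ∑ z : F, f z = ∑ z : F, (z ^ 1 - z ^ 2) := Finset.sum_congr rfl fun z _ => by simp only [f]; ring
      _ = 0 := by rw [Finset.sum_sub_distrib, e1, e2, sub_zero]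
  have hhalf : hf ∈ D := by
    rw [hD, hhf]
    refine ⟨inv_ne_zero h2, fun h => ?_⟩
    rw [inv_eq_one] at h
    exact one_ne_zero (α := F) (by linear_combination h)
  have hV0 : f hf ∈ V := Finset.mem_image_of_mem f hhalf
  have hfib : ∀ b ∈ V, (D.filter fun z => f z = b).card = if b = f hf then 1 else 2 := by
    intro b hb
    obtain ⟨z0, hz0, rfl⟩ := Finset.mem_image.1 hb
    have hroot : ∀ z, f z = f z0 ↔ z = z0 ∨ z = 1 - z0 := fun z => by
      refine ⟨fun h => ?_, ?_⟩
      · have e : (z - z0) * (1 - z - z0) = 0 := by simp only [f] at h; linear_combination h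
        rcases mul_eq_zero.1 e with h | h
        exacts [Or.inl (sub_eq_zero.1 h), Or.inr (by linear_combination -h)]
      · rintro (rfl | rfl) <;> simp only [f] <;> ring
    have hz1 : 1 - z0 ∈ D := by
      rw [hD] at hz0 ⊢
      exact ⟨sub_ne_zero.2 (Ne.symm hz0.2), fun h => hz0.1 (by linear_combination -h)⟩
    have e : (D.filter fun z => f z = f z0) = {z0, 1 - z0} := by
      ext z
      simp only [Finset.mem_filter, hroot, Finset.mem_insert, Finset.mem_singleton, and_iff_right_iff_imp]
      rintro (rfl | rfl) <;> assumption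
    rw [e]
    split_ifs with h
    · have : z0 = hf ∨ z0 = 1 - hf := by
        rcases (hroot hf).1 h.symm with h' | h'
        exacts [Or.inl h'.symm, Or.inr (by linear_combination h')]
      have e1 : (1 : F) - hf = hf := by rw [hhf]; field_simp; ring
      rw [e1] at this
      rcases this with rfl | rfl <;> simp [e1]
    · refine Finset.card_pair fun e1 => h ?_
      have e2 : z0 = hf := by rw [hhf]; field_simp; linear_combination e1
      rw [e2]
  have hcardV : 2 * V.card = Fintype.card F - 1 := by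
    have e := Finset.card_eq_sum_card_image f D
    rw [Finset.sum_congr rfl hfib, ← Finset.add_sum_erase V _ hV0, if_pos rfl,
      Finset.sum_congr rfl (fun b hb => if_neg (Finset.ne_of_mem_erase hb)), Finset.sum_const,
      Finset.card_erase_of_mem hV0, smul_eq_mul] at e
    have hDc : D.card = Fintype.card F - 2 := by
      rw [Finset.card_sdiff_of_subset (Finset.subset_univ _), Finset.card_univ, Finset.card_pair zero_ne_one]
    have := Finset.card_pos.2 ⟨_, hV0⟩
    omega
  have hsumV : ∑ b ∈ V, b ≠ 0 := fun h0 => by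
    have hfd : ∑ z ∈ D, f z = 0 := by
      rw [← hsum_all]
      refine Finset.sum_subset (Finset.subset_univ D) fun z _ hz => ?_
      rw [hD, not_and_or, not_not, not_not] at hz
      rcases hz with rfl | rfl <;> simp [f]
    have e : ∑ z ∈ D, f z = ∑ b ∈ V, (D.filter fun z => f z = b).card • b :=
      Finset.sum_comp (fun b => b) f
    rw [hfd, ← Finset.add_sum_erase V _ hV0, hfib _ hV0, if_pos rfl, one_smul,
      Finset.sum_congr rfl (fun b hb => by rw [hfib b (Finset.mem_of_mem_erase hb),
        if_neg (Finset.ne_of_mem_erase hb)]), ← Finset.smul_sum, Finset.sum_erase_eq_sub hV0, h0, zero_sub,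
      two_nsmul] at e
    have e' : f hf = 0 := by linear_combination e
    have := (hD hf).1 hhalf
    rcases mul_eq_zero.1 e' with h | h
    exacts [this.1 h, this.2 (sub_eq_zero.1 h).symm]
  have hVne : ∀ b ∈ V, b ≠ 0 := fun b hb => by
    obtain ⟨z, hz, rfl⟩ := Finset.mem_image.1 hb
    exact mul_ne_zero ((hD z).1 hz).1 (sub_ne_zero.2 (Ne.symm ((hD z).1 hz).2))
  let A : Finset F := Finset.univ.filter fun x => ∃ b ∈ V, ∃ t : F, t ≠ 0 ∧ x = b * t ^ 4
  have hVA : V ⊆ A := fun b hb => Finset.mem_filter.2 ⟨Finset.mem_univ _, b, hb, 1, one_ne_zero, by ring⟩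
  have hAne : ∀ x ∈ A, x ≠ 0 := fun x hx => by
    obtain ⟨b, hb, t, ht, rfl⟩ := (Finset.mem_filter.1 hx).2
    exact mul_ne_zero (hVne b hb) (pow_ne_zero _ ht)
  have hlt : V.card < A.card := by
    by_contra hle
    have hAV : V = A := Finset.eq_of_subset_of_card_le hVA (not_lt.1 hle)
    obtain ⟨t, ht⟩ : ∃ t : F, t ∉ ((Polynomial.X ^ 4 - Polynomial.C (1 : F)).roots.toFinset ∪ {0}) := by
      refine exists_ne_of_card _ ?_
      have h1 := Polynomial.card_roots_sub_C' (p := (Polynomial.X ^ 4 : Polynomial F)) (a := (1 : F))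
        (by simp)
      rw [Polynomial.natDegree_X_pow] at h1
      have h2 := Multiset.toFinset_card_le (Polynomial.X ^ 4 - Polynomial.C (1 : F)).roots
      have h3 := Finset.card_union_le (Polynomial.X ^ 4 - Polynomial.C (1 : F)).roots.toFinset {0}
      rw [Finset.card_singleton] at h3
      omega
    simp only [Finset.mem_union, Multiset.mem_toFinset, Finset.mem_singleton, not_or] at ht
    have ht4 : t ^ 4 ≠ 1 := fun h => ht.1 (by
      rw [Polynomial.mem_roots (Polynomial.X_pow_sub_C_ne_zero (by norm_num) 1)]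
      simp [Polynomial.IsRoot, h])
    have hinj : Function.Injective (fun x : F => x * t ^ 4) := mul_left_injective₀ (pow_ne_zero _ ht.2)
    have himg : V.image (fun x => x * t ^ 4) = V := by
      refine Finset.eq_of_subset_of_card_le (fun x hx => ?_) (by rw [Finset.card_image_of_injective _ hinj])
      obtain ⟨b, hb, rfl⟩ := Finset.mem_image.1 hx
      rw [hAV]
      exact Finset.mem_filter.2 ⟨Finset.mem_univ _, b, hb, t, ht.2, rfl⟩
    have := congrArg (fun s : Finset F => ∑ b ∈ s, b) himg
    simp only [Finset.sum_image hinj.injOn, ← Finset.sum_mul] at this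
    exact hsumV ((mul_eq_zero.1 (show (∑ b ∈ V, b) * (t ^ 4 - 1) = 0 by linear_combination this)).resolve_right
      (sub_ne_zero.2 ht4))
  let B : Finset F := A.image fun x => κ / x
  have hBcard : B.card = A.card := Finset.card_image_of_injOn fun x hx y hy e => by
    have := hAne x hx; have := hAne y hy
    field_simp at e
    exact e.symm
  have hsub : A ∪ B ⊆ Finset.univ.erase 0 := fun x hx => by
    rw [Finset.mem_erase]
    refine ⟨?_, Finset.mem_univ _⟩
    rcases Finset.mem_union.1 hx with h | h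
    · exact hAne x h
    · obtain ⟨y, hy, rfl⟩ := Finset.mem_image.1 h
      exact div_ne_zero hκ (hAne y hy)
  have hcard := Finset.card_le_card hsub
  rw [Finset.card_erase_of_mem (Finset.mem_univ _), Finset.card_univ] at hcard
  have := Finset.card_union_add_card_inter A B
  obtain ⟨x, hx⟩ : (A ∩ B).Nonempty := Finset.card_pos.1 (by omega)
  rw [Finset.mem_inter] at hx
  obtain ⟨y, hy, e⟩ := Finset.mem_image.1 hx.2
  obtain ⟨b, hb, s, hs, hbs⟩ := (Finset.mem_filter.1 hx.1).2
  obtain ⟨b', hb', s', hs', hbs'⟩ := (Finset.mem_filter.1 hy).2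
  obtain ⟨z, hz, rfl⟩ := Finset.mem_image.1 hb
  obtain ⟨w, hw, rfl⟩ := Finset.mem_image.1 hb'
  refine ⟨z, w, ((hD z).1 hz).1, ((hD z).1 hz).2, ((hD w).1 hw).1, ((hD w).1 hw).2, (s * s')⁻¹,
    inv_ne_zero (mul_ne_zero hs hs'), ?_⟩
  show f z * f w = κ * (s * s')⁻¹ ^ 4
  have hy0 := hAne y hy
  have e2 : x * y = κ := by rw [← e]; field_simp
  rw [← e2, hbs, hbs']
  field_simp

/-- There are four solutions. -/
theorem exists_four_solutions [DecidableEq F] (h7 : 7 ≤ Fintype.card F) {κ : F} (hκ : κ ≠ 0) :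
    ∃ T : Finset (F × F), 4 ≤ T.card ∧ ∀ p ∈ T, Sol κ p := by
  by_cases h2 : (2 : F) = 0
  · haveI : CharP F 2 := CharTwo.of_one_ne_zero_of_two_eq_zero one_ne_zero h2
    obtain ⟨x, hx⟩ := exists_ne_of_card ({0, 1} : Finset F) (lt_of_le_of_lt Finset.card_le_two (by omega))
    refine ⟨(Finset.univ \ {0, 1}) ×ˢ (Finset.univ \ {0, 1}), ?_, fun p hp => ?_⟩
    · rw [Finset.card_product, Finset.card_sdiff_of_subset (Finset.subset_univ _), Finset.card_univ,
        Finset.card_pair zero_ne_one]
      calc 4 ≤ 5 * 5 := by norm_num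
        _ ≤ _ := Nat.mul_le_mul (by omega) (by omega)
    · simp only [Finset.mem_product, Finset.mem_sdiff, Finset.mem_univ, true_and, Finset.mem_insert,
        Finset.mem_singleton, not_or] at hp
      obtain ⟨⟨a, b⟩, c, d⟩ := hp
      refine ⟨a, b, c, d, ?_⟩
      have hF2 : ringChar F = 2 := ringChar.eq F 2
      obtain ⟨u, hu⟩ := FiniteField.isSquare_of_char_two hF2 (p.1 * (1 - p.1) * (p.2 * (1 - p.2)) / κ)
      obtain ⟨t, ht⟩ := FiniteField.isSquare_of_char_two hF2 u
      have hne : p.1 * (1 - p.1) * (p.2 * (1 - p.2)) ≠ 0 :=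
        mul_ne_zero (mul_ne_zero a (sub_ne_zero.2 (Ne.symm b))) (mul_ne_zero c (sub_ne_zero.2 (Ne.symm d)))
      have e : p.1 * (1 - p.1) * (p.2 * (1 - p.2)) / κ = t ^ 4 := by rw [hu, ht]; ring
      refine ⟨t, fun h => div_ne_zero hne hκ (by rw [e, h]; ring), ?_⟩
      rw [← e]; field_simp
  · have key : ∀ z w : F, Sol κ (z, w) → z ≠ 1 - z → ∃ T : Finset (F × F), 4 ≤ T.card ∧ ∀ p ∈ T, Sol κ p := by
      intro z w h hz
      by_cases hw : w = 1 - w
      · have hzw : z ≠ w := fun e => hz (by rw [e]; exact hw)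
        have hzw' : 1 - z ≠ w := fun e => hzw (by linear_combination -e - hw)
        refine ⟨{(z, w), (1 - z, w), (w, z), (w, 1 - z)}, ?_, fun p hp => ?_⟩
        · simp [hz, Ne.symm hz, hzw, Ne.symm hzw, hzw', Ne.symm hzw']
        · simp only [Finset.mem_insert, Finset.mem_singleton] at hp
          rcases hp with rfl | rfl | rfl | rfl
          exacts [h, h.flip_fst, h.swap, h.flip_fst.swap]
      · refine ⟨{(z, w), (1 - z, w), (z, 1 - w), (1 - z, 1 - w)}, ?_, fun p hp => ?_⟩
        · simp [hz, Ne.symm hz, hw, Ne.symm hw]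
        · simp only [Finset.mem_insert, Finset.mem_singleton] at hp
          rcases hp with rfl | rfl | rfl | rfl
          exacts [h, h.flip_fst, h.flip_snd, h.flip_fst.flip_snd]
    obtain ⟨z, w, h⟩ := exists_solution h7 h2 hκ
    by_cases hz : z = 1 - z
    swap
    · exact key z w h hz
    by_cases hw : w = 1 - w
    swap
    · exact key w z h.swap hw
    -- both halves: a value `z (1 - z)` which is a square
    obtain ⟨-, -, -, -, t₀, ht₀, e₀⟩ := h
    obtain ⟨t, ht⟩ := exists_ne_of_card
      ((Finset.univ.filter fun t : F => t ^ 2 = -1) ∪ {0, 1, -1}) (by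
      have h1 : (Finset.univ.filter fun t : F => t ^ 2 = -1).card ≤ 2 := by
        refine le_trans ?_ ((Multiset.toFinset_card_le _).trans (Polynomial.card_nthRoots 2 (-1 : F)))
        refine Finset.card_le_card fun t ht => ?_
        rw [Multiset.mem_toFinset, Polynomial.mem_nthRoots two_pos]
        exact (Finset.mem_filter.1 ht).2
      have h3 := Finset.card_union_le (Finset.univ.filter fun t : F => t ^ 2 = -1) {0, 1, -1}
      have h4 : ({0, 1, -1} : Finset F).card ≤ 3 := Finset.card_le_three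
      omega)
    simp only [Finset.mem_union, Finset.mem_filter, Finset.mem_univ, true_and, Finset.mem_insert,
      Finset.mem_singleton, not_or] at ht
    obtain ⟨ht1, ht0, hta, htb⟩ := ht
    have hd : 1 + t ^ 2 ≠ 0 := fun h => ht1 (by linear_combination h)
    set v := (1 + t ^ 2)⁻¹ with hv
    have hv1 : v ≠ 1 := fun h => by
      rw [hv, inv_eq_one] at h
      exact pow_ne_zero 2 ht0 (by linear_combination h)
    refine key v v ⟨inv_ne_zero hd, hv1, inv_ne_zero hd, hv1, t₀ * (2 * (2 * (t / (1 + t ^ 2)))) / 2, ?_, ?_⟩ fun h => ?_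
    · simp [ht₀, h2, ht0, hd]
    · have ez : z = 2⁻¹ := by field_simp; linear_combination hz
      have ew : w = 2⁻¹ := by field_simp; linear_combination hw
      simp only [ez, ew] at e₀
      rw [hv]
      field_simp at e₀ ⊢
      linear_combination (t ^ 4) * e₀
    · rw [hv] at h
      field_simp at h
      rcases mul_eq_zero.1 (show (t - 1) * (t + 1) = 0 by linear_combination -h) with h' | h'
      exacts [hta (sub_eq_zero.1 h'), htb (eq_neg_of_add_eq_zero_left h')]

end CfsgLib.Classical.GeoFour
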