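import Cfsg.Agent.Lib.Classical.GeoFour.Axis
import Cfsg.Agent.Lib.Classical.GeoFour.Count

/-!
# In dimension four the overgroups of the monomial group contain a transvection
-/

set_option autoImplicit false
set_option linter.unusedSectionVars false
set_option linter.unusedSimpArgs false

namespace CfsgLib.Classical.GeoFour

open Matrix DecompMax

variable {ι : Type*} [Fintype ι] [DecidableEq ι] {F : Type*} [Field F] [Fintype F]
variable {S : Set (Matrix ι ι F)} (hS : MonOver S) (h7 : 7 ≤ Fintype.card F) (hn : Fintype.card ι = 4)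

include hn in
theorem exists_compl_pair {a b : ι} (hab : a ≠ b) :
    ∃ c e, c ≠ e ∧ c ≠ a ∧ c ≠ b ∧ e ≠ a ∧ e ≠ b ∧ ∀ i, i = a ∨ i = b ∨ i = c ∨ i = e := by
  have h : (({a, b} : Finset ι)ᶜ).card = 2 := by rw [Finset.card_compl, Finset.card_pair hab, hn]
  obtain ⟨c, e, hce, h⟩ := Finset.card_eq_two.1 h
  have hm : ∀ i, (i ≠ a ∧ i ≠ b) ↔ (i = c ∨ i = e) := fun i => by
    have := Finset.ext_iff.1 h i
    simpa using this
  obtain ⟨hca, hcb⟩ := (hm c).2 (Or.inl rfl)
  obtain ⟨hea, heb⟩ := (hm e).2 (Or.inr rfl)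
  refine ⟨c, e, hce, hca, hcb, hea, heb, fun i => ?_⟩
  by_cases ha : i = a
  · exact Or.inl ha
  by_cases hb : i = b
  · exact Or.inr (Or.inl hb)
  · exact Or.inr (Or.inr ((hm i).1 ⟨ha, hb⟩))

include h7 in
theorem exists_scalar : ∃ l : F, l ≠ 0 ∧ l ≠ 1 ∧ l * l ≠ 1 ∧ l * l * l ≠ 1 ∧ l * l * l * l ≠ 1 := by
  classical
  obtain ⟨u, hu⟩ := IsCyclic.exists_generator (α := Fˣ)
  have ho : orderOf u = Fintype.card F - 1 := by
    rw [orderOf_eq_card_of_forall_mem_zpowers hu, Nat.card_eq_fintype_card, Fintype.card_units]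
  have hne : ∀ k, 0 < k → k < 5 → (u : F) ^ k ≠ 1 := fun k hk hk5 h => by
    have h' : u ^ k = 1 := Units.ext (by rw [Units.val_pow_eq_pow_val, h, Units.val_one])
    have := Nat.le_of_dvd hk (orderOf_dvd_of_pow_eq_one h')
    omega
  refine ⟨u, u.ne_zero, ?_, ?_, ?_, ?_⟩
  · simpa using hne 1 (by norm_num) (by norm_num)
  · simpa [pow_succ] using hne 2 (by norm_num) (by norm_num)
  · simpa [pow_succ] using hne 3 (by norm_num) (by norm_num)
  · simpa [pow_succ] using hne 4 (by norm_num) (by norm_num)

include hS h7 hn in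
theorem hasTv_of_one {h : Matrix ι ι F} (hh : h ∈ S) (hmon : ¬ IsMon h) {r j : ι} (h0 : ∀ i, i ≠ r → h i j = 0) :
    HasTv S :=
  hasTv_of_column hS (by omega) (by omega) hh hmon h0

/-- A conjugate of a diagonal matrix fixing an axis is monomial, or we are done. -/
theorem exists_mon_of_conj (hS : MonOver S) (h7 : 7 ≤ Fintype.card F) (hn : Fintype.card ι = 4) (hW : ¬ HasTv S)
    {h B : Matrix ι ι F} (hh : h ∈ S) (hhB : h * B = 1) (hBh : B * h = 1) {d : ι → F} (hd : ∏ q, d q = 1)
    (hd0 : ∀ q, d q ≠ 0) {j : ι} {c : F} (hcol : ∀ i, h i j ≠ 0 → d i = c) :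
    ∃ (σ : Equiv.Perm ι) (d' : ι → F), (∀ q, d' q ≠ 0) ∧ B * diagonal d * h = mon σ d' ∧
      diagonal d * h = h * mon σ d' := by
  have hB : B ∈ S := hS.closed.inv_mem hh hhB
  have hD : diagonal d ∈ S := mon_diag d ▸ hS.diag_mem hd
  have hm : B * diagonal d * h ∈ S := hS.closed.mul (hS.closed.mul hB hD) hh
  have hax : AxisCol j (B * diagonal d * h) := fun i hi => by
    have e : (fun k => (diagonal d * h) k j) = c • fun k => h k j := funext fun k => by
      rw [diagonal_mul, Pi.smul_apply, smul_eq_mul]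
      by_cases hk : h k j = 0
      · simp [hk]
      · rw [hcol k hk]
    calc (B * diagonal d * h) i j = ∑ k, B i k * (diagonal d * h) k j := by rw [mul_assoc, mul_apply]
      _ = ∑ k, B i k * (c * h k j) := Finset.sum_congr rfl fun k _ => by rw [congrFun e k]; rfl
      _ = c * (B * h) i j := by rw [mul_apply, Finset.mul_sum]; exact Finset.sum_congr rfl fun k _ => by ring
      _ = 0 := by rw [hBh, Matrix.one_apply_ne hi, mul_zero]
  have hmon : IsMon (B * diagonal d * h) := by_contra fun hc => hW (hasTv_of_axisCol hS (by omega) (by omega) hm hax hc)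
  obtain ⟨z, -, hz1, hz2⟩ := hS.closed.inv hm
  obtain ⟨σ, d', hd', he⟩ := hmon.exists_eq hz1 hz2
  exact ⟨σ, d', hd', he, by rw [← he, ← mul_assoc, ← mul_assoc, hhB, one_mul]⟩

include hS h7 hn in
theorem hasTv_of_two {h : Matrix ι ι F} (hh : h ∈ S) {j a b : ι} (hab : a ≠ b) (ha : h a j ≠ 0) (hb : h b j ≠ 0)
    (h0 : ∀ i, i ≠ a → i ≠ b → h i j = 0) : HasTv S := by
  classical
  by_contra hW
  have hmon : ¬ IsMon h := fun hc => hab (hc a b j ha hb)
  obtain ⟨B, -, hhB, hBh⟩ := hS.closed.inv hh
  obtain ⟨c, e, hce, hca, hcb, hea, heb, huniv⟩ := exists_compl_pair hn hab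
  obtain ⟨l, hl0, hl1, hl2, hl3, hl4⟩ := exists_scalar (F := F) h7
  obtain ⟨σ, m, hm0, hm, hcomm⟩ := exists_mon_of_conj hS h7 hn hW hh hhB hBh (prod_sc hce hl0) (sc_ne_zero hl0)
    (j := j) (c := 1) fun i hi => by
      rcases huniv i with rfl | rfl | rfl | rfl
      · simp [sc, hca.symm, hea.symm]
      · simp [sc, hcb.symm, heb.symm]
      · exact absurd (h0 _ hca hcb) hi
      · exact absurd (h0 _ hea heb) hi
  set D := diagonal (sc c e l) with hD
  set T : F := 1 + l + l⁻¹ with hT
  have hpolyD : D * D * D + T • D = T • (D * D) + 1 := by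
    rw [hD, diagonal_mul_diagonal, diagonal_mul_diagonal, ← diagonal_smul, ← diagonal_smul, ← diagonal_one,
      diagonal_add, diagonal_add]
    congr 1
    funext q
    simp only [Pi.smul_apply, smul_eq_mul, sc, hT]
    by_cases h1 : q = c
    · simp only [h1, if_true]; field_simp; ring
    by_cases h2 : q = e
    · simp only [h1, h2, hce.symm, if_true, if_false]; field_simp; ring
    simp only [h1, h2, if_false]; ring
  have hmmul : ∀ X Y : Matrix ι ι F, (B * X * h) * (B * Y * h) = B * (X * Y) * h := fun X Y => by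
    simp only [mul_assoc]; rw [← mul_assoc h B, hhB, one_mul]
  have hpoly : mon σ m * mon σ m * mon σ m + T • mon σ m = T • (mon σ m * mon σ m) + 1 := by
    have := congrArg (fun X => B * X * h) hpolyD
    simp only [mul_add, add_mul, Matrix.mul_smul, Matrix.smul_mul, mul_one, hBh] at this
    rw [← hmmul, ← hmmul, hm] at this
    exact this
  have hσ : σ = 1 := by
    by_contra hne
    obtain ⟨p, hp⟩ : ∃ p, σ p ≠ p := by
      by_contra hall; push Not at hall; exact hne (Equiv.ext hall)
    rw [mon_mul, mon_mul] at hpoly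
    have hq : σ (σ p) ≠ σ p := fun h => hp (σ.injective h)
    by_cases h2 : σ (σ p) = p
    · have e1 := congrFun (congrFun hpoly (σ p)) p
      have e2 := congrFun (congrFun hpoly p) p
      simp [mon_apply, Equiv.Perm.mul_apply, h2, hp, Ne.symm hp, Matrix.one_apply] at e1 e2
      have e3 : m (σ p) * m p + T = 0 := by
        have e4 : m p * (m (σ p) * m p + T) = 0 := by linear_combination e1
        exact (mul_eq_zero.1 e4).resolve_left (hm0 p)
      have e5 : (T - 1) * (T + 1) = 0 := by linear_combination T * e3 + e2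
      rw [hT] at e5
      rcases mul_eq_zero.1 e5 with h' | h'
      · field_simp at h'
        exact hl4 (by linear_combination (l * l - 1) * h')
      · field_simp at h'
        have : l + 1 = 0 := mul_self_eq_zero.1 (by linear_combination h')
        exact hl2 (by linear_combination (l - 1) * this)
    · have e1 := congrFun (congrFun hpoly (σ (σ p))) p
      have h3 : σ (σ p) ≠ σ (σ (σ p)) := fun h => hq (σ.injective h).symm
      simp [mon_apply, Equiv.Perm.mul_apply, h2, h3, hq, Matrix.one_apply, hm0] at e1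
      rw [hT] at e1
      field_simp at e1
      exact hl3 (by linear_combination (l - 1) * e1)
  subst hσ
  obtain ⟨p, hp⟩ := exists_ne_zero_row hhB c
  refine hW (hasTv_of_one hS h7 hn hh hmon (r := c) (j := p) fun i hi => by_contra fun hne => ?_)
  have key : ∀ i, h i p ≠ 0 → sc c e l i = m p := fun i hne => by
    have := congrFun (congrFun hcomm i) p
    rw [hD, diagonal_mul, mul_mon_apply, Equiv.Perm.one_apply] at this
    exact mul_right_cancel₀ hne (by rw [this]; ring)
  have e1 := key c hp
  have e2 := key i hne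
  rw [← e2] at e1
  rcases huniv i with rfl | rfl | rfl | rfl <;>
    simp [sc, hce, hce.symm, hca.symm, hcb.symm, hea.symm, heb.symm] at e1 hi
  · exact hl1 e1
  · exact hl1 e1
  · field_simp at e1
    exact hl2 (by linear_combination e1)

include hS h7 hn in
theorem hasTv_of_three {h : Matrix ι ι F} (hh : h ∈ S) (hmon : ¬ IsMon h) {j a : ι} (ha : h a j = 0) : HasTv S := by
  classical
  by_contra hW
  obtain ⟨B, hB, hhB, hBh⟩ := hS.closed.inv hh
  obtain ⟨l, hl0, hl1, hl2, hl3, hl4⟩ := exists_scalar (F := F) h7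
  set μ := (l * l * l)⁻¹ with hμ
  set d : ι → F := Function.update (fun _ => l) a μ with hd
  have hd0 : ∀ q, d q ≠ 0 := fun q => by by_cases hq : q = a <;> simp [hd, hμ, hq, hl0]
  have hprod : ∏ q, d q = 1 := by
    rw [hd, Finset.prod_update_of_mem (Finset.mem_univ a), Finset.prod_const, Finset.sdiff_singleton_eq_erase,
      Finset.card_erase_of_mem (Finset.mem_univ a), Finset.card_univ, hn, hμ]
    field_simp
  have hne : μ ≠ l := fun e => hl4 (by rw [hμ] at e; field_simp at e; linear_combination -e)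
  obtain ⟨σ, m, hm0, hm, hcomm⟩ := exists_mon_of_conj hS h7 hn hW hh hhB hBh hprod hd0 (j := j) (c := l)
    fun i hi => by simp [hd, show i ≠ a from fun e => hi (e ▸ ha)]
  by_cases hσ : σ = 1
  · subst hσ
    obtain ⟨p, hp⟩ := exists_ne_zero_row hhB a
    refine hW (hasTv_of_one hS h7 hn hh hmon (r := a) (j := p) fun i hi => by_contra fun hne' => hne ?_)
    have key : ∀ i, h i p ≠ 0 → d i = m p := fun i hne => by
      have := congrFun (congrFun hcomm i) p
      rw [diagonal_mul, mul_mon_apply, Equiv.Perm.one_apply] at this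
      exact mul_right_cancel₀ hne (by rw [this]; ring)
    have e := (key a hp).trans (key i hne').symm
    simpa [hd, hi] using e
  obtain ⟨p, hp⟩ : ∃ p, σ p ≠ p := by
    by_contra hall; push Not at hall; exact hσ (Equiv.ext hall)
  -- the vector `(m - l) e_p` is a multiple of a column of the inverse
  have hker : ∀ i, mon σ m i p - l * (1 : Matrix ι ι F) i p = B i a * ((μ - l) * h a p) := fun i => by
    have hsplit : diagonal d * h - l • h = Matrix.of fun k q => if k = a then (μ - l) * h a q else 0 := by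
      ext k q
      rw [Matrix.sub_apply, diagonal_mul, Matrix.smul_apply, smul_eq_mul, Matrix.of_apply]
      by_cases hk : k = a
      · subst hk; simp [hd]; ring
      · simp [hd, hk]
    have e : (B * (diagonal d * h - l • h)) i p =
        (B * (Matrix.of fun k q => if k = a then (μ - l) * h a q else 0)) i p := by rw [hsplit]
    rw [mul_sub, Matrix.mul_smul, ← mul_assoc, hm, hBh, Matrix.sub_apply, Matrix.smul_apply, smul_eq_mul,
      mul_apply] at e
    rw [e, Finset.sum_eq_single a (fun k _ hk => by rw [Matrix.of_apply, if_neg hk, mul_zero]) (by simp),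
      Matrix.of_apply, if_pos rfl]
  have k0 : (μ - l) * h a p ≠ 0 := fun e => by
    have := hker (σ p)
    rw [e, mul_zero, Matrix.one_apply_ne hp, mul_zero, sub_zero, mon_apply, if_pos rfl] at this
    exact hm0 p this
  refine hW (hasTv_of_two hS h7 hn hB (j := a) (a := σ p) (b := p) hp ?_ ?_ fun i hi hi' => ?_)
  · intro e
    have := hker (σ p)
    rw [e, zero_mul, Matrix.one_apply_ne hp, mul_zero, sub_zero, mon_apply, if_pos rfl] at this
    exact hm0 p this
  · intro e
    have := hker p
    rw [e, zero_mul, Matrix.one_apply_eq, mul_one, mon_apply, if_neg (Ne.symm hp), zero_sub, neg_eq_zero] at this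
    exact hl0 this
  · have := hker i
    rw [Matrix.one_apply_ne hi', mul_zero, sub_zero, mon_apply, if_neg hi] at this
    exact (mul_eq_zero.1 this.symm).resolve_right k0

include hS h7 hn in
/-- The main result on lines. -/
theorem hasTv_of_not_isMon_four {g : Matrix ι ι F} (hg : g ∈ S) (hmon : ¬ IsMon g) : HasTv S := by
  classical
  by_contra hW
  have hfull : ∀ h ∈ S, ¬ IsMon h → ∀ i j, h i j ≠ 0 := fun h hh hm i j e =>
    hW (hasTv_of_three hS h7 hn hh hm e)
  obtain ⟨B, hB, hgB, hBg⟩ := hS.closed.inv hg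
  have hBmon : ¬ IsMon B := fun h => hmon (h.of_inverse hBg hgB)
  have eι : ι ≃ Fin 4 := Fintype.equivFinOfCardEq hn
  set i₀ : ι := eι.symm 0
  set j₀ : ι := eι.symm 1
  set G : ι → F := fun q => g i₀ q * B q j₀
  have hG : ∀ q, G q ≠ 0 := fun q => mul_ne_zero (hfull g hg hmon _ _) (hfull B hB hBmon _ _)
  set κ := ∏ q, G q
  obtain ⟨T, hT, hsol⟩ := exists_four_solutions h7 (κ := κ) (Finset.prod_ne_zero_iff.2 fun q _ => hG q)
  let u : F × F → Fin 4 → F := fun p => ![p.1, 1 - p.1, -p.2, p.2 - 1]
  have key : ∀ p ∈ T, ∃ k, k ≠ i₀ ∧ ∃ s : F, s ≠ 0 ∧ ∀ q, u p (eι q) = s * (g i₀ q * B q k) := by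
    intro p hp
    obtain ⟨h1, h2, h3, h4, τ, hτ, he⟩ := hsol p hp
    set t : ι → F := fun q => u p (eι q) / (τ * G q) with ht
    have hprod : ∏ q, t q = 1 := by
      rw [ht, Finset.prod_div_distrib, Finset.prod_mul_distrib, Finset.prod_const, Finset.card_univ, hn,
        Equiv.prod_comp eι (u p), Fin.prod_univ_four]
      have : κ ≠ 0 := Finset.prod_ne_zero_iff.2 fun q _ => hG q
      rw [div_eq_one_iff_eq (mul_ne_zero (pow_ne_zero _ hτ) this)]
      simp only [u, Matrix.cons_val]
      linear_combination he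
    have hy : g * diagonal t * B ∈ S := hS.closed.mul (hS.closed.mul hg (mon_diag t ▸ hS.diag_mem hprod)) hB
    have hzero : (g * diagonal t * B) i₀ j₀ = 0 := by
      rw [mul_apply]
      have e : ∀ q, (g * diagonal t) i₀ q * B q j₀ = u p (eι q) / τ := fun q => by
        rw [mul_diagonal, ht]
        have h1 := hfull g hg hmon i₀ q
        have h2 := hfull B hB hBmon q j₀
        simp only [G]
        field_simp
      rw [Finset.sum_congr rfl fun q _ => e q, ← Finset.sum_div, Equiv.sum_comp eι (u p), Fin.sum_univ_four]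
      simp only [u, Matrix.cons_val, div_eq_zero_iff]
      exact Or.inl (by ring)
    have hym : IsMon (g * diagonal t * B) := by_contra fun hm => hfull _ hy hm _ _ hzero
    obtain ⟨z, -, hz1, hz2⟩ := hS.closed.inv hy
    obtain ⟨k, hk⟩ := exists_ne_zero_col hz2 j₀
    refine ⟨k, fun e => hk (e ▸ hzero), τ * (g * diagonal t * B) k j₀, mul_ne_zero hτ hk, fun q => ?_⟩
    have e : (diagonal t * B) q j₀ = B q k * (g * diagonal t * B) k j₀ := by
      have e1 : diagonal t * B = B * (g * diagonal t * B) := by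
        rw [← mul_assoc, ← mul_assoc, hBg, one_mul]
      rw [e1, mul_apply, Finset.sum_eq_single k (fun b _ hb => by
        rw [show (g * diagonal t * B) b j₀ = 0 from by_contra fun h => hb (hym b k j₀ h hk), mul_zero]) (by simp)]
    rw [diagonal_mul, ht] at e
    have h1 := hfull g hg hmon i₀ q
    have h2 := hfull B hB hBmon q j₀
    simp only [G] at e
    rw [← ht] at e
    generalize hY : (g * diagonal t * B) k j₀ = Y at e ⊢
    field_simp at e
    linear_combination e
  haveI : Nonempty ι := ⟨i₀⟩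
  choose! k hk s hs heq using key
  obtain ⟨p, hp, p', hp', hne, hkk⟩ := Finset.exists_ne_map_eq_of_card_lt_of_maps_to
    (t := Finset.univ.erase i₀) (by rw [Finset.card_erase_of_mem (Finset.mem_univ _), Finset.card_univ, hn]; omega)
    (f := k) (s := T) fun p hp => Finset.mem_erase.2 ⟨hk p hp, Finset.mem_univ _⟩
  refine hne ?_
  have hr : ∀ i : Fin 4, s p' * u p i = s p * u p' i := fun i => by
    rw [← eι.apply_symm_apply i, heq p hp, heq p' hp', hkk]; ring
  have e0 := hr 0
  have e1 := hr 1
  have e2 := hr 2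
  simp only [u, Matrix.cons_val] at e0 e1 e2
  have hss : s p' = s p := by linear_combination e0 + e1
  rw [hss] at e0 e2
  exact Prod.ext (mul_left_cancel₀ (hs p hp) e0) (neg_injective (mul_left_cancel₀ (hs p hp) e2))

end CfsgLib.Classical.GeoFour
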