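import Cfsg.Agent.Lib.Classical.DecompMax.Blocks

/-!
# Overgroups of the stabiliser of two planes in dimension four
-/

set_option autoImplicit false
set_option linter.unusedSectionVars false
set_option linter.unusedSimpArgs false

namespace CfsgLib.Classical.GeoFour

open Matrix DecompMax

section
variable {κ α : Type*} [Fintype κ] [DecidableEq κ] [Fintype α] [DecidableEq α] {F : Type*} [Field F]
  {S : Set (Matrix (κ × α) (κ × α) F)}

/-- Outside the block stabiliser one finds a transvection whose centre and axis meet two blocks. -/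
theorem exists_mixed [Nontrivial α] (hS : BlkOver S) {g : Matrix (κ × α) (κ × α) F} (hg : g ∈ S) (hnb : ¬ Blk g) :
    ∃ (w ψ : κ × α → F) (a p : κ × α), tv w ψ ∈ S ∧ ψ ⬝ᵥ w = 0 ∧ w a ≠ 0 ∧ ψ p ≠ 0 ∧ p.1 ≠ a.1 := by
  obtain ⟨B, -, hgB, hBg⟩ := hS.closed.inv hg
  obtain ⟨i, u, φ, hu, hφ, h0, hφne, p₁, p₂, h1, h2, h12⟩ : ∃ (i : κ) (u φ : κ × α → F), InBlock i u ∧ InBlock i φ ∧
      φ ⬝ᵥ u = 0 ∧ φ ≠ 0 ∧ ∃ p₁ p₂ : κ × α, (g *ᵥ u) p₁ ≠ 0 ∧ (g *ᵥ u) p₂ ≠ 0 ∧ p₁.1 ≠ p₂.1 := by
    by_cases hcol : ∃ q p₁ p₂, g p₁ q ≠ 0 ∧ g p₂ q ≠ 0 ∧ p₁.1 ≠ p₂.1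
    · obtain ⟨q, p₁, p₂, h1, h2, h12⟩ := hcol
      obtain ⟨b, hb⟩ := exists_ne q.2
      have hqq : (q.1, b) ≠ q := fun e => hb (congrArg Prod.snd e)
      exact ⟨q.1, Pi.single q 1, Pi.single (q.1, b) 1, inBlock_single q 1, inBlock_single (q.1, b) 1,
        dot_single_single hqq _ _, by simp, p₁, p₂, by simpa using h1, by simpa using h2, h12⟩
    · push Not at hcol
      unfold Blk at hnb
      push Not at hnb
      obtain ⟨p, q, p', q', hp, hp', hqq, hpp⟩ := hnb
      have hne : q ≠ q' := fun e => hpp (hcol q p p' hp (e ▸ hp'))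
      have z : g p q' = 0 := by_contra fun h => hpp (hcol q' p p' h hp')
      have z' : g p' q = 0 := by_contra fun h => hpp (hcol q p p' hp h)
      refine ⟨q.1, Pi.single q 1 + Pi.single q' 1, Pi.single q 1 - Pi.single q' 1, fun x hx => ?_, fun x hx => ?_,
        by simp [hne, hne.symm], fun e => one_ne_zero (α := F) (by simpa [hne] using congrFun e q), p, p', ?_, ?_, hpp⟩
      · by_contra hx'
        refine hx ?_
        rw [Pi.add_apply, Pi.single_eq_of_ne (show x ≠ q from fun e => hx' (e ▸ rfl)),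
          Pi.single_eq_of_ne (show x ≠ q' from fun e => hx' (e ▸ hqq.symm)), add_zero]
      · by_contra hx'
        refine hx ?_
        rw [Pi.sub_apply, Pi.single_eq_of_ne (show x ≠ q from fun e => hx' (e ▸ rfl)),
          Pi.single_eq_of_ne (show x ≠ q' from fun e => hx' (e ▸ hqq.symm)), sub_zero]
      · simpa [mulVec_add, z] using hp
      · simpa [mulVec_add, z'] using hp'
  have hmem := hS.closed.conj hg hgB (hS.tv_mem hu hφ h0)
  rw [tv_conj hgB] at hmem
  have hψ : φ ᵥ* B ≠ 0 := fun e => hφne (by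
    have := congrArg (fun x => x ᵥ* g) e
    simpa [vecMul_vecMul, hBg] using this)
  have hd : (φ ᵥ* B) ⬝ᵥ (g *ᵥ u) = 0 := by rw [← dotProduct_mulVec, mulVec_mulVec, hBg, one_mulVec, h0]
  obtain ⟨p, hp⟩ := Function.ne_iff.1 hψ
  simp only [Pi.zero_apply] at hp
  by_cases hh : p.1 = p₁.1
  · exact ⟨_, _, p₂, p, hmem, hd, h2, hp, hh ▸ h12⟩
  · exact ⟨_, _, p₁, p, hmem, hd, h1, hp, hh⟩

end

section
variable {F : Type*} [Field F]

local notation "X4" => Fin 2 × Fin 2

/-- The block diagonal matrix with given blocks. -/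
def bd (A : Fin 2 → Matrix (Fin 2) (Fin 2) F) : Matrix X4 X4 F :=
  Matrix.of fun p q => if p.1 = q.1 then A p.1 p.2 q.2 else 0

theorem bd_apply (A : Fin 2 → Matrix (Fin 2) (Fin 2) F) (p q : X4) :
    bd A p q = if p.1 = q.1 then A p.1 p.2 q.2 else 0 := rfl

theorem det_bd (A : Fin 2 → Matrix (Fin 2) (Fin 2) F) : (bd A).det = ∏ i, (A i).det := by
  have e : bd A = (Matrix.blockDiagonal A).reindex (Equiv.prodComm _ _) (Equiv.prodComm _ _) := by
    ext ⟨i, a⟩ ⟨j, b⟩
    simp [bd_apply, Matrix.blockDiagonal_apply]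
  rw [e, Matrix.det_reindex_self, Matrix.det_blockDiagonal]

theorem bdiag_bd (A : Fin 2 → Matrix (Fin 2) (Fin 2) F) : BDiag (bd A) := fun p q h => by
  by_contra hne; exact h (if_neg hne)

theorem exists_sl_column {u v : F} (h : u ≠ 0 ∨ v ≠ 0) : ∃ β δ : F, u * δ - β * v = 1 := by
  rcases eq_or_ne u 0 with hu | hu
  · exact ⟨-v⁻¹, 0, by have hv := h.resolve_left (not_not.2 hu); field_simp; ring⟩
  · exact ⟨0, u⁻¹, by field_simp; ring⟩

/-- The centre `e₀₀ + e₁₀`. -/
def cen : X4 → F := Pi.single (0, 0) 1 + Pi.single (1, 0) 1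

/-- The axes orthogonal to both components of the centre. -/
def axv (x y : F) : X4 → F := Pi.single (0, 1) x + Pi.single (1, 1) y

theorem axv_dot_cen (x y : F) : axv x y ⬝ᵥ (cen : X4 → F) = 0 := by
  simp [axv, cen, add_dotProduct, dotProduct_add, Pi.single_apply]

variable [Fintype F] {S : Set (Matrix X4 X4 F)} (hS : BlkOver S)

include hS in
theorem diag_mem {d : X4 → F} (hd : ∏ q, d q = 1) : mon (1 : Equiv.Perm X4) d ∈ S := by
  refine hS.blk_mem (by rw [det_mon, hd, Equiv.Perm.sign_one]; simp) (BDiag.blk fun p q h => ?_)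
  by_contra hne
  exact h (by rw [mon_apply, if_neg]; exact fun e => hne (by rw [e]; rfl))

include hS in
/-- Rescaling by a diagonal element. -/
theorem axv_scale {x y l μ ν : F} (h : tv cen (axv x y) ∈ S) (h1 : l * l * (μ * ν) = 1) :
    tv cen (axv (l / μ * x) (l / ν * y)) ∈ S := by
  set d : X4 → F := fun q => if q = (0, 1) then μ else if q = (1, 1) then ν else l with hd
  have hl : l ≠ 0 := fun e => by simp [e] at h1
  have hμ : μ ≠ 0 := fun e => by simp [e] at h1
  have hν : ν ≠ 0 := fun e => by simp [e] at h1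
  have hd0 : ∀ q, d q ≠ 0 := fun q => by simp only [hd]; split_ifs <;> assumption
  have hm := hS.closed.conj (diag_mem hS (d := d) (by
    rw [Fintype.prod_prod_type, Fin.prod_univ_two, Fin.prod_univ_two, Fin.prod_univ_two]
    simp [hd]; linear_combination h1)) (mon_mul_inv 1 hd0) h
  rw [mon_conj_tv 1 hd0] at hm
  convert hm using 1
  ext ⟨i, a⟩ ⟨j, b⟩
  fin_cases i <;> fin_cases a <;> fin_cases j <;> fin_cases b <;>
    simp [tv_apply, mvec, mcov, cen, axv, hd, Pi.single_apply] <;> field_simp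

include hS in
theorem hasCross_normal (h4 : 4 ≤ Fintype.card F) {x y : F} (hx : x ≠ 0) (h : tv cen (axv x y) ∈ S) : HasCross S := by
  classical
  have hadd : ∀ {x y x' y' : F}, tv cen (axv x y) ∈ S → tv cen (axv x' y') ∈ S →
      tv cen (axv (x + x') (y + y')) ∈ S := fun {x y x' y'} a b => by
    have := hS.closed.mul a b
    rw [tv_mul_same_left _ _ _ (axv_dot_cen _ _)] at this
    convert this using 2
    simp only [axv, Pi.single_add]; abel
  have hneg : ∀ {x y : F}, tv cen (axv x y) ∈ S → tv cen (axv (-x) (-y)) ∈ S := fun {x y} a => by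
    refine hS.closed.inv_mem a ?_
    rw [tv_mul_same_left _ _ _ (axv_dot_cen _ _)]
    ext p q
    simp [tv_apply, axv, Pi.single_neg]
    right
    ring
  have hsq : ∀ {x y : F} (s : F), s ≠ 0 → tv cen (axv x y) ∈ S → tv cen (axv (s * s * x) (s * s * y)) ∈ S :=
    fun {x y} s hs a => by
      have := axv_scale hS a (l := s) (μ := s⁻¹) (ν := s⁻¹) (by field_simp)
      simpa [div_inv_eq_mul] using this
  have hzero : tv cen (axv (0 : F) 0) ∈ S := by simpa using hadd h (hneg h)
  have hsq' : ∀ {x y : F} (s : F), tv cen (axv x y) ∈ S → tv cen (axv (s * s * x) (s * s * y)) ∈ S :=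
    fun {x y} s a => by
      rcases eq_or_ne s 0 with rfl | hs
      · simpa using hzero
      · exact hsq s hs a
  have hsmul : ∀ {x y : F} (s : F), tv cen (axv x y) ∈ S → tv cen (axv (s * x) (s * y)) ∈ S := fun {x y} s a => by
    by_cases h2 : (2 : F) = 0
    · haveI : CharP F 2 := CharTwo.of_one_ne_zero_of_two_eq_zero one_ne_zero h2
      obtain ⟨r, rfl⟩ := FiniteField.isSquare_of_char_two (ringChar.eq F 2) s
      exact hsq' r a
    · have := hadd (hsq' ((s + 1) / 2) a) (hneg (hsq' ((s - 1) / 2) a))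
      convert this using 3 <;> field_simp <;> ring
  obtain ⟨c, -, hc⟩ := Finset.exists_mem_notMem_of_card_lt_card (s := ({0, 1, -1} : Finset F)) (t := Finset.univ)
    (Finset.card_le_three.trans_lt (by rw [Finset.card_univ]; omega))
  simp only [Finset.mem_insert, Finset.mem_singleton, not_or] at hc
  obtain ⟨hc0, hc1, hcn⟩ := hc
  have h1 := hadd (hsmul c h) (hneg (axv_scale hS h (l := 1) (μ := c) (ν := c⁻¹) (by field_simp)))
  have hcc : c - c⁻¹ ≠ 0 := fun e => by
    field_simp at e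
    rcases mul_self_eq_one_iff.1 (show c * c = 1 by linear_combination e) with h | h
    exacts [hc1 h, hcn h]
  have h2 : tv cen (axv ((c - c⁻¹) * x) 0) ∈ S := by
    convert h1 using 3 <;> field_simp <;> ring
  set d : X4 → F := fun q => if q = (1, 0) then c else if q = (1, 1) then c⁻¹ else 1 with hd
  have hd0 : ∀ q, d q ≠ 0 := fun q => by simp only [hd]; split_ifs <;> simp [hc0]
  have h3 := hS.closed.mul (hS.closed.conj (diag_mem hS (d := d) (by
    rw [Fintype.prod_prod_type, Fin.prod_univ_two, Fin.prod_univ_two, Fin.prod_univ_two]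
    simp [hd, hc0])) (mon_mul_inv 1 hd0) h2) (hS.closed.inv_mem h2 (tv_mul_neg _ _ (axv_dot_cen _ _)))
  rw [mon_conj_tv 1 hd0] at h3
  refine ⟨(1, 0), (0, 1), (c - 1) * ((c - c⁻¹) * x), by simp,
    mul_ne_zero (sub_ne_zero.2 hc1) (mul_ne_zero hcc hx), ?_⟩
  convert h3 using 1
  have e : (mcov 1 d (axv ((c - c⁻¹) * x) 0) : X4 → F) = axv ((c - c⁻¹) * x) 0 := by
    funext q
    obtain ⟨i, a⟩ := q
    fin_cases i <;> fin_cases a <;> simp [mcov, hd, axv, Pi.single_apply]
  rw [e, tv_mul_same_right, dotProduct_neg, axv_dot_cen, neg_zero, zero_smul, add_zero, transvection_eq_tv]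
  ext ⟨i, a⟩ ⟨j, b⟩
  fin_cases i <;> fin_cases a <;> fin_cases j <;> fin_cases b <;>
    simp [tv_apply, mvec, cen, axv, hd, Pi.single_apply] <;> first | ring1 | (left; ring1)

include hS in
/-- The main result on pairs of planes. -/
theorem hasCross_of_planes (h4 : 4 ≤ Fintype.card F) {g : Matrix X4 X4 F} (hg : g ∈ S) (hnb : ¬ Blk g) :
    HasCross S := by
  obtain ⟨w, ψ, a, p, hmem, h0, hwa, hψp, hpa⟩ := exists_mixed hS hg hnb
  have hcov : ∀ i : Fin 2, i = a.1 ∨ i = p.1 := by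
    intro i; revert hpa; generalize a.1 = x; generalize p.1 = y
    revert i x y; decide
  have hblk : ∀ (i : Fin 2) (u v : F), InBlock i ((Pi.single ((i, 0) : X4) u : X4 → F) + Pi.single ((i, 1) : X4) v) :=
    fun i u v x hx => by
    by_contra hne
    refine hx ?_
    rw [Pi.add_apply, Pi.single_eq_of_ne (show x ≠ (i, 0) from fun e => hne (e ▸ rfl)),
      Pi.single_eq_of_ne (show x ≠ (i, 1) from fun e => hne (e ▸ rfl)), add_zero]
  by_cases hwk : ∀ x, w (p.1, x) = 0
  · refine hasCross_of_inBlock hS (j := a.1) (fun q hq => ?_) (fun e => hwa (congrFun e a)) h0 hpa hψp hmem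
    rcases hcov q.1 with h | h
    · exact h
    · exact absurd (by simpa [← h] using hwk q.2) hq
  set D : Fin 2 → F := fun i => ψ (i, 0) * w (i, 0) + ψ (i, 1) * w (i, 1) with hD
  have use : ∀ w' φ' : X4 → F, InBlock a.1 w' → InBlock a.1 φ' → w' ≠ 0 → ψ ⬝ᵥ w' = 0 → φ' ⬝ᵥ w' = 0 →
      φ' ⬝ᵥ w ≠ 0 → HasCross S := fun w' φ' hw' hφ' hw0 hψw hφw hφ0 => by
    have h1 := tv_diff_left hS hmem h0 (hS.tv_mem hw' hφ' hφw) (tv_mul_neg _ _ hφw) (by
      rw [vecMul_tv, dotProduct_neg, hψw, neg_zero, zero_smul, add_zero])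
    rw [tv_mulVec, add_sub_cancel_left] at h1
    exact hasCross_of_inBlock hS (j := a.1) (fun x hx => hw' x (right_ne_zero_of_mul (by simpa using hx)))
      (smul_ne_zero hφ0 hw0) (by rw [dotProduct_smul, hψw, smul_zero]) hpa hψp h1
  by_cases hψa : ψ (a.1, 0) = 0 ∧ ψ (a.1, 1) = 0
  · set b : X4 := (a.1, a.2 + 1) with hb
    have hba : b ≠ a := fun e => by
      have h := congrArg Prod.snd e; revert h; simp only [hb]; generalize a.2 = z; revert z; decide
    refine use (Pi.single b 1) (Pi.single a 1) (inBlock_single b (1 : F)) (inBlock_single a 1) (by simp) ?_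
      (dot_single_single hba.symm _ _) (by simpa using hwa)
    rw [dotProduct_single, mul_one, hb]
    generalize a.2 + 1 = z
    fin_cases z
    exacts [hψa.1, hψa.2]
  by_cases hDa : D a.1 = 0
  swap
  · refine use (Pi.single (a.1, 0) (ψ (a.1, 1)) + Pi.single (a.1, 1) (-ψ (a.1, 0)))
      (Pi.single (a.1, 0) (ψ (a.1, 0)) + Pi.single (a.1, 1) (ψ (a.1, 1))) (hblk _ _ _) (hblk _ _ _) (fun e => ?_) ?_ ?_ ?_
    · have e0 := congrFun e (a.1, 0)
      have e1 := congrFun e (a.1, 1)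
      simp at e0 e1
      exact hψa ⟨e1, e0⟩
    · simp [dotProduct_add]; ring
    · simp [dotProduct_add, add_dotProduct]; ring
    · simpa [add_dotProduct, hD] using hDa
  have hDsum : D 0 + D 1 = 0 := by
    rw [← h0, dotProduct, Fintype.sum_prod_type, Fin.sum_univ_two, Fin.sum_univ_two, Fin.sum_univ_two]
  have hDp : D p.1 = 0 := by
    revert hDa hpa; generalize a.1 = x; generalize p.1 = y
    fin_cases x <;> fin_cases y <;> simp <;> intro h
    · linear_combination hDsum - h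
    · linear_combination hDsum - h
  have hD0 : ∀ i, D i = 0 := fun i => (hcov i).elim (· ▸ hDa) (· ▸ hDp)
  have hw0 : ∀ i, w (i, 0) ≠ 0 ∨ w (i, 1) ≠ 0 := fun i => by
    rw [or_iff_not_imp_left, not_not]
    intro e0 e1
    rcases hcov i with rfl | rfl
    · obtain ⟨a1, a2⟩ := a
      fin_cases a2
      exacts [hwa e0, hwa e1]
    · exact hwk fun x => by fin_cases x; exacts [e0, e1]
  have hψ0 : ∀ i, ψ (i, 0) ≠ 0 ∨ ψ (i, 1) ≠ 0 := fun i => by
    rw [or_iff_not_imp_left, not_not]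
    intro e0 e1
    rcases hcov i with rfl | rfl
    · exact hψa ⟨e0, e1⟩
    · obtain ⟨p1, p2⟩ := p
      fin_cases p2
      exacts [hψp e0, hψp e1]
  choose β δ hbd using fun i => exists_sl_column (hw0 i)
  set A : Fin 2 → Matrix (Fin 2) (Fin 2) F := fun i => !![w (i, 0), β i; w (i, 1), δ i] with hA
  set Q := bd A with hQ
  have hQdet : Q.det = 1 := by
    rw [hQ, det_bd]
    exact Finset.prod_eq_one fun i _ => by rw [hA, Matrix.det_fin_two_of, hbd i]
  have hQS : Q ∈ S := hS.blk_mem hQdet (bdiag_bd A).blk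
  have hu : IsUnit Q.det := by rw [hQdet]; exact isUnit_one
  have hQi : Q * Q⁻¹ = 1 := Matrix.mul_nonsing_inv _ hu
  have hiQ : Q⁻¹ * Q = 1 := Matrix.nonsing_inv_mul _ hu
  have h1 := hS.closed.conj (hS.closed.inv_mem hQS hQi) hiQ hmem
  rw [tv_conj hiQ] at h1
  have ecen : Q⁻¹ *ᵥ w = cen := by
    have : Q *ᵥ cen = w := by
      funext q
      obtain ⟨i, b⟩ := q
      fin_cases i <;> fin_cases b <;>
        simp [hQ, hA, mulVec, dotProduct, bd_apply, cen, Fintype.sum_prod_type, Fin.sum_univ_two, Pi.single_apply]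
    rw [← this, mulVec_mulVec, hiQ, one_mulVec]
  have eax : ψ ᵥ* Q = axv (ψ (0, 0) * β 0 + ψ (0, 1) * δ 0) (ψ (1, 0) * β 1 + ψ (1, 1) * δ 1) := by
    funext q
    obtain ⟨i, b⟩ := q
    fin_cases i <;> fin_cases b <;>
      simp [hQ, hA, vecMul, dotProduct, bd_apply, axv, Fintype.sum_prod_type, Fin.sum_univ_two, Pi.single_apply]
    · simpa [hD] using hD0 0
    · simpa [hD] using hD0 1
  rw [ecen, eax] at h1
  refine hasCross_normal hS h4 (fun e => ?_) h1
  have hd0 := hD0 0
  simp only [hD] at hd0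
  rcases hψ0 0 with h | h
  · exact h (by linear_combination (δ 0) * hd0 - w (0, 1) * e - (ψ (0, 0)) * hbd 0)
  · exact h (by linear_combination w (0, 0) * e - β 0 * hd0 - (ψ (0, 1)) * hbd 0)

end

end CfsgLib.Classical.GeoFour
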