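import Cfsg.Agent.Lib.Classical.DecompMax.Main
import Cfsg.Agent.Lib.Classical.GeoFour.Lines
import Cfsg.Agent.Lib.Classical.GeoFour.Planes

/-!
# Stabilisers of decompositions of a four-dimensional space are maximal in `SL`
-/

set_option autoImplicit false
set_option linter.unusedSectionVars false
set_option linter.unusedSimpArgs false

namespace CfsgLib.Classical.GeoFour

open Matrix Module DecompMax

variable {F : Type*} [Field F] [Fintype F]

theorem isMaximalIn_of_cross {n t m : ℕ} (hn : 3 ≤ n) {D : Fin t → Submodule F (Fin n → F)} (hD : Cfsg.Geo.IsMDecomposition m D)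
    (hcross : t * m = n → ∀ S : Set (Matrix (Fin t × Fin m) (Fin t × Fin m) F), BlkOver S → ∀ X ∈ S, ¬ Blk X →
      HasCross S) :
    Cfsg.Geo.IsMaximalIn (Cfsg.Geo.specialLinear (Fin n) F)
      (Cfsg.Geo.decompositionStabilizer D ⊓ Cfsg.Geo.specialLinear (Fin n) F) := by
  classical
  obtain ⟨E, hE1, hE2⟩ := CfsgLib.Classical.DecompNonMax.exists_adapted hD
  have hnm : Fintype.card (Fin t × Fin m) = n := by
    have := E.finrank_eq
    simp only [Module.finrank_pi] at this
    simpa using this.symm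
  have ht := hD.two_le
  have hm := hD.pos
  refine ⟨lt_of_le_not_ge inf_le_right fun hle => ?_, fun M hHM hMK => ?_⟩
  · let p : Fin t × Fin m := (⟨0, by omega⟩, ⟨0, hm⟩)
    let q : Fin t × Fin m := (⟨1, by omega⟩, ⟨0, hm⟩)
    have hpq : p.1 ≠ q.1 := by simp [p, q, Fin.ext_iff]
    have hne : p ≠ q := fun e => hpq (congrArg Prod.fst e)
    set A := (coords E).symm (transvection p q (1 : F))
    have hA : A.det = 1 := by
      rw [← coords_det E, AlgEquiv.apply_symm_apply, det_transvection_of_ne _ _ hne]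
    have hb := (mem_stab_iff_blk hD E hE1 hE2 (glOfDet A hA)).1 (hle (mem_sl.2 hA)).1
    have e : coords E ((glOfDet A hA : GL (Fin n) F) : Matrix (Fin n) (Fin n) F) = transvection p q 1 :=
      (coords E).apply_symm_apply _
    rw [e] at hb
    exact hpq (hb p q q q (by simp [transvection, hne]) (by simp [transvection, hne]) rfl)
  · set S : Set (Matrix (Fin t × Fin m) (Fin t × Fin m) F) :=
      {X | ∃ g ∈ M, coords E (g : Matrix (Fin n) (Fin n) F) = X}
    have hS : BlkOver S :=
      { closed :=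
          { mul := by
              rintro X Y ⟨g, hg, rfl⟩ ⟨h, hh, rfl⟩
              exact ⟨g * h, M.mul_mem hg hh, by rw [Units.val_mul, map_mul]⟩
            inv := by
              rintro X ⟨g, hg, rfl⟩
              refine ⟨_, ⟨g⁻¹, M.inv_mem hg, rfl⟩, ?_, ?_⟩ <;> rw [← map_mul, ← Units.val_mul] <;> simp }
        det_eq := by
          rintro X ⟨g, hg, rfl⟩
          rw [coords_det]; exact mem_sl.1 (hMK hg)
        blk_mem := fun {X} hX hb => by
          have hA : ((coords E).symm X).det = 1 := by rw [← coords_det E, AlgEquiv.apply_symm_apply, hX]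
          have e : coords E ((glOfDet _ hA : GL (Fin n) F) : Matrix (Fin n) (Fin n) F) = X :=
            (coords E).apply_symm_apply _
          exact ⟨glOfDet _ hA, hHM ⟨(mem_stab_iff_blk hD E hE1 hE2 _).2 (e.symm ▸ hb), mem_sl.2 hA⟩, e⟩ }
    by_cases hMH : M ≤ Cfsg.Geo.decompositionStabilizer D ⊓ Cfsg.Geo.specialLinear (Fin n) F
    · exact Or.inl (le_antisymm hMH hHM)
    · obtain ⟨g, hg, hgH⟩ := SetLike.not_le_iff_exists.1 hMH
      have hnb : ¬ Blk (coords E (g : Matrix (Fin n) (Fin n) F)) := fun h =>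
        hgH ⟨(mem_stab_iff_blk hD E hE1 hE2 g).2 h, hMK hg⟩
      have hc : HasCross S := hcross (by simpa using hnm) S hS _ ⟨g, hg, rfl⟩ hnb
      refine Or.inr (le_antisymm hMK fun x hx => ?_)
      obtain ⟨y, hy, e⟩ := all_of_hasCross hS (by omega) hc
        (A := coords E (x : Matrix (Fin n) (Fin n) F)) (by rw [coords_det]; exact mem_sl.1 hx)
      rwa [Units.ext ((coords E).injective e) ] at hy

theorem lines_maximal (h7 : 7 ≤ Fintype.card F) {D : Fin 4 → Submodule F (Fin 4 → F)}
    (hD : Cfsg.Geo.IsMDecomposition 1 D) :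
    Cfsg.Geo.IsMaximalIn (Cfsg.Geo.specialLinear (Fin 4) F)
      (Cfsg.Geo.decompositionStabilizer D ⊓ Cfsg.Geo.specialLinear (Fin 4) F) :=
  isMaximalIn_of_cross (by norm_num) hD fun _ S hS X hX hnb => by
    have fst_inj : ∀ x y : Fin 4 × Fin 1, x.1 = y.1 → x = y := fun x y h => Prod.ext h (Subsingleton.elim _ _)
    have hM : MonOver S :=
      ⟨hS.closed, hS.det_eq, fun σ d hd => hS.blk_mem hd fun p q p' q' hp hp' e => by
        obtain rfl := fst_inj _ _ e
        exact congrArg Prod.fst (isMon_mon σ d p p' q hp hp')⟩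
    obtain ⟨s, t, c, hst, hc, hm⟩ := hasTv_of_not_isMon_four hM h7 (by simp) hX fun h => hnb fun p q p' q' hp hp' e => by
      obtain rfl := fst_inj _ _ e
      exact congrArg Prod.fst (h p p' q hp hp')
    exact ⟨s, t, c, fun e => hst (fst_inj _ _ e), hc, hm⟩

theorem planes_maximal (h4 : 4 ≤ Fintype.card F) {D : Fin 2 → Submodule F (Fin 4 → F)}
    (hD : Cfsg.Geo.IsMDecomposition 2 D) :
    Cfsg.Geo.IsMaximalIn (Cfsg.Geo.specialLinear (Fin 4) F)
      (Cfsg.Geo.decompositionStabilizer D ⊓ Cfsg.Geo.specialLinear (Fin 4) F) :=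
  isMaximalIn_of_cross (by norm_num) hD fun _ _ hS _ hX hnb => hasCross_of_planes hS h4 hX hnb

end CfsgLib.Classical.GeoFour
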