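import Cfsg.Agent.Lib.Classical.GSpMax
import Cfsg.Agent.Lib.Classical.SimMaxTransv

/-!
# Centres of full groups of transvections in a subgroup

The vectors `a` such that a subgroup contains every transvection with centre `a` form a subspace
invariant under the subgroup.
-/

set_option autoImplicit false
set_option linter.unusedSectionVars false
set_option backward.isDefEq.respectTransparency false

open Module Matrix

namespace CfsgLib.Classical.GeoFour

variable {ι : Type} [Fintype ι] [DecidableEq ι] {F : Type*} [Field F] [Fintype F] (M : Subgroup (GL ι F))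

/-- All transvections with centre `a` lie in `M`. -/
def Full (a : ι → F) : Prop := ∀ (f : ι → F) (h : f ⬝ᵥ a = 0), trGL a f h ∈ M

variable {M}

theorem Full.map {a : ι → F} (h : Full M a) {g : GL ι F} (hg : g ∈ M) : Full M ((g : Matrix ι ι F) *ᵥ a) := by
  intro f hf
  have h0 : (f ᵥ* (g : Matrix ι ι F)) ⬝ᵥ a = 0 := by rw [← dotProduct_mulVec, hf]
  rw [← SimMax.conj_eq_trGL (g := g) (h := h0) fun x => by rw [← dotProduct_mulVec]]
  exact mul_mem (mul_mem hg (h _ h0)) (inv_mem hg)

theorem Full.zero : Full M (0 : ι → F) := fun f h => by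
  rw [trGL_eq_one_of (Or.inl rfl)]; exact M.one_mem

theorem Full.smul {a : ι → F} (h : Full M a) (c : F) : Full M (c • a) := by
  intro f hf
  by_cases hc : c = 0
  · subst hc
    rw [trGL_eq_one_of (Or.inl (zero_smul F a))]
    exact M.one_mem
  have h0 : (c • f) ⬝ᵥ a = 0 := by rwa [smul_dotProduct, ← dotProduct_smul]
  convert h _ h0 using 1
  refine Units.ext (Matrix.ext_iff_mulVec.2 fun x => ?_)
  rw [trGL_mulVec, trGL_mulVec, smul_dotProduct, smul_smul, smul_eq_mul, mul_comm]

theorem Full.add {a b : ι → F} (ha : Full M a) (hb : Full M b) : Full M (a + b) := by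
  by_cases ha0 : a = 0
  · rwa [ha0, zero_add]
  by_cases hab : b ∈ Submodule.span F {a}
  · obtain ⟨c, rfl⟩ := Submodule.mem_span_singleton.1 hab
    have := ha.smul (1 + c)
    rwa [add_smul, one_smul] at this
  obtain ⟨φ, hφb, hφa⟩ := Submodule.exists_dual_map_eq_bot_of_notMem hab inferInstance
  have hφa0 : φ a = 0 := (Submodule.mem_bot F).1
    (hφa ▸ Submodule.mem_map_of_mem (Submodule.mem_span_singleton_self a))
  have h0 : funVec ((φ b)⁻¹ • φ) ⬝ᵥ a = 0 := by
    rw [funVec_dot, LinearMap.smul_apply, hφa0, smul_zero]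
  have := hb.map (ha _ h0)
  rw [trGL_mulVec, funVec_dot, LinearMap.smul_apply, smul_eq_mul, inv_mul_cancel₀ hφb, one_smul, add_comm] at this
  exact this

variable (M) in
/-- The centres of full groups of transvections. -/
def fullCentres : Submodule F (ι → F) where
  carrier := {a | Full M a}
  add_mem' := Full.add
  zero_mem' := Full.zero
  smul_mem' c _ h := Full.smul h c

theorem mem_fullCentres {a : ι → F} : a ∈ fullCentres M ↔ Full M a := Iff.rfl

theorem sl_le_of_fullCentres (h : fullCentres M = ⊤) : Cfsg.Geo.specialLinear ι F ≤ M :=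
  sl_le_of_forall_trGL M fun v f hf => by
    have hv : v ∈ fullCentres M := by rw [h]; exact Submodule.mem_top
    exact hv f hf

end CfsgLib.Classical.GeoFour
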