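import Cfsg.Prelude.Def_GeometricClasses
import Cfsg.Agent.Lib.Classical.GeoFour.OrthFour.Transv
import Cfsg.Agent.Lib.Classical.GeoFour.OrthFour.Spread
import Cfsg.Agent.Lib.Classical.GeoMaxSmall.SL

/-!
# Similarity groups of quadratic forms are maximal in `SL_4` for odd order
-/

set_option autoImplicit false
set_option linter.unusedSectionVars false
set_option linter.unusedSimpArgs false

open Cfsg

namespace CfsgLib.Classical.GeoFour

theorem orth_maximal {F : Type*} [Field F] [Fintype F] (n : ℕ) (hn : n = 4) (hodd : Odd (Fintype.card F)) (Q : (Fin n → F) → F) (hQ : Cfsg.Geo.IsNondegenerateQuadraticForm Q) : Cfsg.Geo.IsMaximalIn (Cfsg.Geo.specialLinear (Fin n) F) (Cfsg.Geo.quadSimilarityGroup Q ⊓ Cfsg.Geo.specialLinear (Fin n) F) := by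
  obtain ⟨Q', hQf, hnd⟩ := CfsgLib.Classical.exists_quadOf hQ
  have h2 : (2 : F) ≠ 0 := by
    intro h
    have hc : ringChar F = 2 := CharP.ringChar_of_prime_eq_zero Nat.prime_two (by exact_mod_cast h)
    exact (Nat.not_even_iff_odd.2 hodd) (Nat.even_iff.2 (FiniteField.even_card_of_char_two hc))
  have hn' : Fintype.card (Fin n) = 4 := by rwa [Fintype.card_fin]
  have hN : Module.finrank F (Fin n → F) = n := by simp
  refine ⟨lt_of_le_of_ne inf_le_right ?_, fun M hM hMK => ?_⟩
  · intro he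
    obtain ⟨a, ha⟩ : ∃ a, Q' a ≠ 0 := by
      by_contra hc
      push Not at hc
      have h0 : (Pi.single (⟨0, by omega⟩ : Fin n) (1 : F) : Fin n → F) = 0 := hnd.1 _ fun y => by
        simp [QuadraticMap.polarBilin_apply_apply, QuadraticMap.polar, hc]
      simp at h0
    have haa : QuadraticMap.polarBilin Q' a a ≠ 0 := by
      rw [CfsgLib.Classical.SimMax.polar_self']; exact mul_ne_zero h2 ha
    obtain ⟨b, hb, hb0, -⟩ := CfsgLib.Classical.SimMax.exists_singular_of_three (Q := Q') h2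
      (U := CfsgLib.Classical.SimMax.perp Q' ![a]) (by
        have := CfsgLib.Classical.SimMax.finrank_perp_ge Q' ![a]; omega)
    rw [CfsgLib.Classical.SimMax.mem_perp, Fin.forall_fin_one] at hb
    change QuadraticMap.polarBilin Q' a b = 0 at hb
    obtain ⟨y, hy⟩ : ∃ y, QuadraticMap.polarBilin Q' b y ≠ 0 := by
      by_contra hc'; push Not at hc'; exact hb0 (hnd.1 b hc')
    have h0 : CfsgLib.Classical.SimMax.bv Q' b ⬝ᵥ a = 0 := by
      rw [CfsgLib.Classical.SimMax.bv_dot, CfsgLib.Classical.SimMax.polar_symm]; exact hb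
    have hT := (he.symm.le (CfsgLib.Classical.trGL_mem_sl a _ h0)).1
    obtain ⟨c, hc⟩ := hT
    have hc1 := hc a
    rw [CfsgLib.Classical.trGL_mulVec, h0, zero_smul, add_zero, hQf] at hc1
    have hc' : (c : F) = 1 := mul_right_cancel₀ ha (hc1.symm.trans (one_mul _).symm)
    set x := y - (QuadraticMap.polarBilin Q' a y / QuadraticMap.polarBilin Q' a a) • a with hx
    have hxa : QuadraticMap.polarBilin Q' x a = 0 := by
      rw [CfsgLib.Classical.SimMax.polar_symm, hx, map_sub, map_smul, smul_eq_mul, div_mul_cancel₀ _ haa, sub_self]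
    have hbx : QuadraticMap.polarBilin Q' b x ≠ 0 := by
      rw [hx, map_sub, map_smul, CfsgLib.Classical.SimMax.polar_symm Q' b a, hb, smul_zero, sub_zero]; exact hy
    have h1 := hc x
    rw [CfsgLib.Classical.trGL_mulVec, CfsgLib.Classical.SimMax.bv_dot, hQf, hQf,
      CfsgLib.Classical.SimMax.map_add_smul, hxa, hc', one_mul, mul_zero, add_zero, add_eq_left] at h1
    exact mul_ne_zero (mul_ne_zero hbx hbx) ha h1
  · rcases eq_or_ne M (Cfsg.Geo.quadSimilarityGroup Q ⊓ Cfsg.Geo.specialLinear (Fin n) F) with h | h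
    · exact Or.inl h
    refine Or.inr (le_antisymm hMK ?_)
    obtain ⟨g, hg, hgH⟩ := SetLike.not_le_iff_exists.1 fun hle => h (le_antisymm hle hM)
    have hH : OrthFour.SimMem Q' M := fun s c hc hs hsim => hM
      ⟨⟨Units.mk0 c hc, fun v => by rw [hQf, hQf]; exact hsim v⟩, hs⟩
    have hgs : ¬ ∃ c : F, ∀ x y, QuadraticMap.polarBilin Q' (((g⁻¹ : GL (Fin n) F) : Matrix (Fin n) (Fin n) F).mulVec x)
        (((g⁻¹ : GL (Fin n) F) : Matrix (Fin n) (Fin n) F).mulVec y) = c * QuadraticMap.polarBilin Q' x y := by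
      rintro ⟨c, hc⟩
      have hc0 : c ≠ 0 := by
        rintro rfl
        have h0 : (Pi.single (⟨0, by omega⟩ : Fin n) (1 : F) : Fin n → F) = 0 := by
          refine hnd.1 _ fun y => ?_
          have := hc ((g : Matrix (Fin n) (Fin n) F).mulVec (Pi.single (⟨0, by omega⟩ : Fin n) (1 : F))) ((g : Matrix (Fin n) (Fin n) F).mulVec y)
          rwa [Matrix.mulVec_mulVec, Matrix.mulVec_mulVec, ← Units.val_mul, inv_mul_cancel, Units.val_one, Matrix.one_mulVec,
            Matrix.one_mulVec, zero_mul] at this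
        simp at h0
      refine hgH ⟨inv_inv g ▸ Subgroup.inv_mem _ (show g⁻¹ ∈ Cfsg.Geo.quadSimilarityGroup Q from
        ⟨Units.mk0 c hc0, fun v => ?_⟩), hMK hg⟩
      have := hc v v
      rw [CfsgLib.Classical.SimMax.polar_self', CfsgLib.Classical.SimMax.polar_self', mul_left_comm] at this
      rw [hQf, hQf]
      exact mul_left_cancel₀ h2 this
    obtain ⟨a, b, hab, ha, hb⟩ := OrthFour.exists_has hnd h2 hH hg hn' hMK (fun ⟨c, hc⟩ => hgs ⟨c, fun x y =>
      (OrthFour.moved_polar g x y).symm.trans (hc x y)⟩)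
    exact OrthFour.sl_le_of_has hnd h2 hH hn' hab ha hb

end CfsgLib.Classical.GeoFour
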