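import Cfsg.Agent.Lib.Classical.GeoFour.SubfieldCore
import Cfsg.Agent.Lib.Classical.GeoMaxSmall.SL

/-!
# Subfield groups are maximal in `SL_n` for `n ≥ 3`
-/

set_option autoImplicit false
set_option linter.unusedSectionVars false
set_option linter.unusedSimpArgs false

open Cfsg

namespace CfsgLib.Classical.GeoFour

theorem subfield_maximal {F : Type*} [Field F] [Fintype F] (n : ℕ) (hn : 3 ≤ n) (F₀ : Subfield F) (r : ℕ) (hr : r.Prime) (hcard : Fintype.card F = Nat.card F₀ ^ r) (P : Matrix.GeneralLinearGroup (Fin n) F) : Cfsg.Geo.IsMaximalIn (Cfsg.Geo.specialLinear (Fin n) F) (Cfsg.Geo.subfieldSubgroup F₀ P ⊓ Cfsg.Geo.specialLinear (Fin n) F) := by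
  classical
  open Matrix in
  haveI hnorm : (Geo.scalars (Fin n) F).Normal := ⟨fun s hs g => by
    obtain ⟨c, hc⟩ := (Geo.mem_scalars_iff s).1 hs
    refine (Geo.mem_scalars_iff _).2 ⟨c, ?_⟩
    rw [Units.val_mul, Units.val_mul, hc, Matrix.mul_smul, Matrix.mul_one, Matrix.smul_mul, ← Units.val_mul,
      mul_inv_cancel, Units.val_one]⟩
  have hmem : ∀ g, g ∈ Geo.subfieldSubgroup F₀ P ↔
      ∃ c : F, c ≠ 0 ∧ ∀ a b, c * ((P⁻¹ * g * P : GL (Fin n) F) : Matrix (Fin n) (Fin n) F) a b ∈ F₀ := by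
    intro g
    rw [Geo.subfieldSubgroup, Subgroup.mem_map]
    constructor
    · rintro ⟨y, hy, rfl⟩
      obtain ⟨a, ⟨A, rfl⟩, s, hs, rfl⟩ := Subgroup.mem_sup_of_normal_right.1 hy
      obtain ⟨c, hc⟩ := (Geo.mem_scalars_iff s).1 hs
      refine ⟨(c⁻¹ : Fˣ), Units.ne_zero _, fun i j => ?_⟩
      rw [show P⁻¹ * (MulAut.conj P).toMonoidHom (Matrix.GeneralLinearGroup.map F₀.subtype A * s) * P =
        Matrix.GeneralLinearGroup.map F₀.subtype A * s by
          rw [MulEquiv.coe_toMonoidHom, MulAut.conj_apply]; group]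
      rw [Units.val_mul, hc, Matrix.mul_smul, Matrix.mul_one, Matrix.smul_apply, smul_eq_mul, ← mul_assoc,
        ← Units.val_mul, inv_mul_cancel, Units.val_one, one_mul, Matrix.GeneralLinearGroup.map_apply]
      exact SetLike.coe_mem _
    · rintro ⟨c, hc, hA⟩
      set h := P⁻¹ * g * P with hh
      let A : Matrix (Fin n) (Fin n) F₀ := fun i j => ⟨c * (h : Matrix (Fin n) (Fin n) F) i j, hA i j⟩
      have hmap : A.map F₀.subtype = c • (h : Matrix (Fin n) (Fin n) F) := rfl
      have hd : A.det ≠ 0 := fun e => by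
        have := congrArg F₀.subtype e
        rw [map_zero, RingHom.map_det, RingHom.mapMatrix_apply, hmap, Matrix.det_smul] at this
        exact mul_ne_zero (pow_ne_zero _ hc) h.det_ne_zero this
      refine ⟨h, Subgroup.mem_sup_of_normal_right.2 ⟨_, ⟨Matrix.GeneralLinearGroup.mkOfDetNeZero A hd, rfl⟩,
        (Matrix.GeneralLinearGroup.map F₀.subtype (Matrix.GeneralLinearGroup.mkOfDetNeZero A hd))⁻¹ * h, ?_,
        mul_inv_cancel_left _ _⟩, by rw [MulEquiv.coe_toMonoidHom, MulAut.conj_apply, hh]; group⟩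
      refine (Geo.mem_scalars_iff _).2 ⟨(Units.mk0 c hc)⁻¹, ?_⟩
      rw [Units.val_mul, show ((h : GL (Fin n) F) : Matrix (Fin n) (Fin n) F) =
        ((Units.mk0 c hc)⁻¹ : Fˣ).val • ((Matrix.GeneralLinearGroup.map F₀.subtype
          (Matrix.GeneralLinearGroup.mkOfDetNeZero A hd) : GL (Fin n) F) : Matrix (Fin n) (Fin n) F) from by
        ext i j
        rw [Matrix.smul_apply, Matrix.GeneralLinearGroup.map_apply, smul_eq_mul]
        show _ = _ * (c * (h : Matrix (Fin n) (Fin n) F) i j)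
        rw [Units.val_inv_eq_inv_val, Units.val_mk0, inv_mul_cancel_left₀ hc], Matrix.mul_smul, ← Units.val_mul,
        inv_mul_cancel, Units.val_one]
  have hsl : ∀ (Q s : GL (Fin n) F), s ∈ Geo.specialLinear (Fin n) F → Q * s * Q⁻¹ ∈ Geo.specialLinear (Fin n) F :=
    fun Q s hs => (MonoidHom.normal_ker _).conj_mem s hs Q
  refine ⟨lt_of_le_of_ne inf_le_right ?_, fun M hM hMK => ?_⟩
  · intro he
    obtain ⟨lam, hlam⟩ : ∃ lam : F, lam ∉ F₀ := by
      by_contra h
      push Not at h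
      have h1 : Fintype.card F = Nat.card F₀ := by
        rw [← Nat.card_eq_fintype_card]
        exact (Nat.card_congr (Equiv.subtypeUnivEquiv h)).symm
      rw [h1] at hcard
      exact (lt_self_pow₀ (Finite.one_lt_card (α := F₀)) hr.one_lt).ne hcard
    set i : Fin n := ⟨0, by omega⟩
    set j : Fin n := ⟨1, by omega⟩
    have hij : i ≠ j := by simp [i, j, Fin.ext_iff]
    have h0 : (Pi.single j 1 : Fin n → F) ⬝ᵥ (lam • Pi.single i 1) = 0 := by simp [hij.symm]
    have hin : P * CfsgLib.Classical.trGL (lam • Pi.single i 1) (Pi.single j 1) h0 * P⁻¹ ∈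
        Geo.specialLinear (Fin n) F := hsl _ _ (CfsgLib.Classical.trGL_mem_sl _ _ _)
    obtain ⟨c, hc0, hc⟩ := (hmem _).1 (he.symm.le hin).1
    rw [show P⁻¹ * (P * CfsgLib.Classical.trGL (lam • Pi.single i 1) (Pi.single j 1) h0 * P⁻¹) * P =
      CfsgLib.Classical.trGL (lam • Pi.single i 1) (Pi.single j 1) h0 by group] at hc
    have h1 := hc i i
    have h2 := hc i j
    simp [CfsgLib.Classical.trGL, CfsgLib.Classical.trMat, Matrix.vecMulVec_apply, hij, hij.symm] at h1 h2
    exact hlam (by simpa [hc0] using mul_mem (inv_mem h1) h2)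
  · rcases eq_or_ne M (Geo.subfieldSubgroup F₀ P ⊓ Geo.specialLinear (Fin n) F) with h | h
    · exact Or.inl h
    refine Or.inr (le_antisymm hMK ?_)
    obtain ⟨g, hg, hgH⟩ := SetLike.not_le_iff_exists.1 fun hle => h (le_antisymm hle hM)
    have hle := CfsgLib.Classical.GeoFour.Subfield.sl_le (F₀ := F₀) (M := M.map (MulAut.conj P⁻¹).toMonoidHom)
      (fun a β ha hβ hab => ⟨hab, P * CfsgLib.Classical.trGL a β hab * P⁻¹, hM ⟨(hmem _).2 ⟨1, one_ne_zero, fun i j => by
        rw [show P⁻¹ * (P * CfsgLib.Classical.trGL a β hab * P⁻¹) * P = CfsgLib.Classical.trGL a β hab by group, one_mul]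
        simp only [CfsgLib.Classical.trGL, CfsgLib.Classical.trMat, Matrix.add_apply, Matrix.one_apply,
          Matrix.vecMulVec_apply]
        refine add_mem ?_ (mul_mem (ha i) (hβ j))
        split_ifs <;> [exact one_mem _; exact zero_mem _]⟩, hsl _ _ (CfsgLib.Classical.trGL_mem_sl _ _ _)⟩, by
          rw [MulEquiv.coe_toMonoidHom, MulAut.conj_apply]; group⟩)
      (by rwa [Fintype.card_fin]) hr hcard
      (g := P⁻¹ * g * P) ⟨g, hg, by rw [MulEquiv.coe_toMonoidHom, MulAut.conj_apply, inv_inv]⟩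
      (fun hc => hgH ⟨(hmem g).2 hc, hMK hg⟩)
    intro s hs
    obtain ⟨m, hm, hme⟩ := hle (x := P⁻¹ * s * P) (by simpa using hsl P⁻¹ s hs)
    rw [MulEquiv.coe_toMonoidHom, MulAut.conj_apply, inv_inv] at hme
    rwa [mul_left_cancel (mul_right_cancel hme)] at hm

end CfsgLib.Classical.GeoFour
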