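import Cfsg.Agent.Lib.Classical.SubfieldMax.Main

/-!
# Above the subfield group there is all of `SL` (dimension at least three)

The arguments of `SubfieldMax.Rat` and `SubfieldMax.Main`, with the bound on the dimension lowered to three.
-/

set_option autoImplicit false
set_option linter.unusedSectionVars false
set_option backward.isDefEq.respectTransparency false

open Matrix
open scoped MatrixGroups

namespace CfsgLib.Classical.GeoFour.Subfield

open SubfieldMax (RatMem HasT IsRat isRat_single exists_borel_outside' upper eq_top_of_prime_degree)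

section
variable {ι : Type} [Fintype ι] [DecidableEq ι] {F : Type*} [Field F] {F₀ : Subfield F} {M : Subgroup (GL ι F)}

theorem exists_third (hn : 3 ≤ Fintype.card ι) (a b : ι) : ∃ e, e ≠ a ∧ e ≠ b := by
  obtain ⟨e, -, he⟩ := Finset.exists_mem_notMem_of_card_lt_card (s := ({a, b} : Finset ι)) (t := Finset.univ)
    (Finset.card_le_two.trans_lt (by rw [Finset.card_univ]; omega))
  simp only [Finset.mem_insert, Finset.mem_singleton, not_or] at he
  exact ⟨e, he⟩

theorem exists_rat_perp (hn : 3 ≤ Fintype.card ι) {a : ι → F} (ha : IsRat F₀ a) (j : ι) :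
    ∃ β : ι → F, IsRat F₀ β ∧ β ≠ 0 ∧ β ⬝ᵥ a = 0 ∧ β j = 0 := by
  obtain ⟨l, hl, -⟩ := exists_third hn j j
  obtain ⟨m, hm, hml⟩ := exists_third hn j l
  by_cases h : a l = 0
  · exact ⟨Pi.single l 1, isRat_single l (one_mem _), by simp, by rw [single_dotProduct, h, mul_zero],
      by simp [hl.symm]⟩
  refine ⟨Pi.single m (a l) - Pi.single l (a m), fun i => sub_mem (isRat_single m (ha l) i) (isRat_single l (ha m) i),
    ?_, by rw [sub_dotProduct, single_dotProduct, single_dotProduct]; ring, by simp [hl.symm, hm.symm]⟩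
  intro e
  have := congrFun e m
  simp [hml] at this
  exact h this

variable (hM : RatMem F₀ M)
include hM

/-- A transvection with rational centre and nonrational axis. -/
theorem exists_scalar_of_rat_centre (hn : 3 ≤ Fintype.card ι) {a ψ : ι → F} (ha : IsRat F₀ a) (ha0 : a ≠ 0)
    (hT : HasT M a ψ) {j : ι} (hj : ψ j ∉ F₀) :
    ∃ μ, μ ∉ F₀ ∧ ∃ a β : ι → F, IsRat F₀ a ∧ IsRat F₀ β ∧ a ≠ 0 ∧ β ≠ 0 ∧ β ⬝ᵥ a = 0 ∧ HasT M (μ • a) β := by
  obtain ⟨β, hβ, hβ0, hβa, hβj⟩ := exists_rat_perp hn ha j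
  refine ⟨ψ j, hj, a, β, ha, hβ, ha0, hβ0, hβa, ?_⟩
  have := hT.comm (hM (Pi.single j 1) β (isRat_single j (one_mem _)) hβ (by rw [dotProduct_single, hβj, zero_mul])) hβa
  rwa [dotProduct_single, mul_one] at this

/-- From a nonrational multiple of a rational transvection to an elementary one. -/
theorem exists_elementary (hn : 3 ≤ Fintype.card ι) {μ : F} {a β : ι → F} (ha : IsRat F₀ a) (hβ : IsRat F₀ β)
    (ha0 : a ≠ 0) (hβ0 : β ≠ 0) (hβa : β ⬝ᵥ a = 0) (hT : HasT M (μ • a) β) :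
    ∃ i j : ι, i ≠ j ∧ HasT M (μ • Pi.single i 1) (Pi.single j 1) := by
  obtain ⟨k, hk⟩ := Function.ne_iff.1 ha0
  obtain ⟨i, hik, -⟩ := exists_third hn k k
  -- make the axis vanish at `i`
  obtain ⟨γ, hγ, hγ0, hγa, hγi, hTγ⟩ : ∃ γ, IsRat F₀ γ ∧ γ ≠ 0 ∧ γ ⬝ᵥ a = 0 ∧ γ i = 0 ∧ HasT M (μ • a) γ := by
    by_cases h : β i = 0
    · exact ⟨β, hβ, hβ0, hβa, h, hT⟩
    obtain ⟨l, hli, hlk⟩ := exists_third hn i k
    refine ⟨Pi.single l (a k) - Pi.single k (a l), fun t => sub_mem (isRat_single l (ha k) t) (isRat_single k (ha l) t),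
      ?_, by rw [sub_dotProduct, single_dotProduct, single_dotProduct]; ring, by simp [hik, hli.symm], ?_⟩
    · intro e
      have := congrFun e l
      simp [hlk] at this
      exact hk this
    have := hT.comm (hM (Pi.single i (β i)⁻¹) (Pi.single l (a k) - Pi.single k (a l))
      (isRat_single i (inv_mem (hβ i)))
      (fun t => sub_mem (isRat_single l (ha k) t) (isRat_single k (ha l) t))
      (by simp [sub_dotProduct, single_dotProduct, hik.symm, hli]))
      (by rw [dotProduct_smul, sub_dotProduct, single_dotProduct, single_dotProduct, smul_eq_mul]; ring)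
    rwa [dotProduct_single, mul_inv_cancel₀ h, one_smul] at this
  -- move the centre to `i`
  have hci : HasT M (μ • Pi.single i 1) γ := by
    have := (hM (Pi.single i 1) (Pi.single k (a k)⁻¹) (isRat_single i (one_mem _)) (isRat_single k (inv_mem (ha k)))
      (by simp [single_dotProduct, hik.symm])).comm hTγ (by rw [dotProduct_single, hγi, zero_mul])
    rwa [dotProduct_smul, single_dotProduct, inv_mul_cancel₀ hk, smul_eq_mul, mul_one] at this
  -- move the axis
  obtain ⟨l, hl⟩ := Function.ne_iff.1 hγ0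
  have hli : l ≠ i := fun e => hl (e ▸ hγi)
  obtain ⟨j, hji, hjl⟩ := exists_third hn i l
  refine ⟨i, j, hji.symm, ?_⟩
  have := hci.comm (hM (Pi.single l (γ l)⁻¹) (Pi.single j 1) (isRat_single l (inv_mem (hγ l)))
    (isRat_single j (one_mem _)) (by simp [single_dotProduct, hjl]))
    (by simp [single_dotProduct, hji])
  rwa [dotProduct_single, mul_inv_cancel₀ hl, one_smul] at this

/-- Elementary transvections spread over all positions. -/
theorem elementary_all (hn : 3 ≤ Fintype.card ι) {μ : F} {i j : ι} (hij : i ≠ j)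
    (hT : HasT M (μ • Pi.single i 1) (Pi.single j 1)) (k l : ι) (hkl : k ≠ l) :
    HasT M (μ • Pi.single k 1) (Pi.single l 1) := by
  have hax : ∀ {i j l : ι}, i ≠ j → i ≠ l → HasT M (μ • Pi.single i 1) (Pi.single j 1) →
      HasT M (μ • Pi.single i 1) (Pi.single l 1) := by
    intro i j l hij hil h
    by_cases hjl : j = l
    · rwa [← hjl]
    have := h.comm (hM (Pi.single j 1) (Pi.single l 1) (isRat_single j (one_mem _)) (isRat_single l (one_mem _))
      (by simp [single_dotProduct, Ne.symm hjl])) (by simp [single_dotProduct, hil.symm])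
    simpa [single_dotProduct] using this
  have hce : ∀ {i j k : ι}, i ≠ j → k ≠ j → HasT M (μ • Pi.single i 1) (Pi.single j 1) →
      HasT M (μ • Pi.single k 1) (Pi.single j 1) := by
    intro i j k hij hkj h
    by_cases hik : i = k
    · rwa [← hik]
    have := (hM (Pi.single k 1) (Pi.single i 1) (isRat_single k (one_mem _)) (isRat_single i (one_mem _))
      (by simp [single_dotProduct, hik])).comm h (by simp [single_dotProduct, hkj.symm])
    simpa [single_dotProduct] using this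
  by_cases hkj : k = j
  · obtain ⟨m, hmi, hmj⟩ := exists_third hn i j
    have hkm : k ≠ m := by rw [hkj]; exact hmj.symm
    exact hax hkm hkl (hce hmi.symm hkm (hax hij hmi.symm hT))
  · exact hax hkj hkl (hce hij hkj hT)

/-- A transvection with nonrational entries whose centre has a rational annihilator. -/
theorem exists_scalar_of_annihilator (hn : 3 ≤ Fintype.card ι) {x ψ φ₀ : ι → F} (hT : HasT M x ψ)
    (hφ : IsRat F₀ φ₀) (hφ0 : φ₀ ≠ 0) (hφx : φ₀ ⬝ᵥ x = 0) (hbad : ∃ i j, x i * ψ j ∉ F₀) :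
    ∃ μ, μ ∉ F₀ ∧ ∃ a β : ι → F, IsRat F₀ a ∧ IsRat F₀ β ∧ a ≠ 0 ∧ β ≠ 0 ∧ β ⬝ᵥ a = 0 ∧ HasT M (μ • a) β := by
  obtain ⟨i, j, hij⟩ := hbad
  by_cases hx : ∃ (l : F) (a : ι → F), IsRat F₀ a ∧ x = l • a
  · obtain ⟨l, a, ha, rfl⟩ := hx
    refine exists_scalar_of_rat_centre hM hn ha (fun e => hij (by simp [e])) (ψ := l • ψ)
      (hT.congr ?_ fun v => by rw [smul_dotProduct, smul_eq_mul, mul_comm, mul_smul]) (j := j) fun h => hij ?_
    · rw [smul_dotProduct, ← dotProduct_smul]; exact hT.1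
    · have := mul_mem (ha i) h
      simpa [mul_assoc, mul_comm, mul_left_comm] using this
  push Not at hx
  obtain ⟨c, hc, hTc⟩ : ∃ c : F, c ≠ 0 ∧ HasT M (c • x) φ₀ := by
    by_cases he : ∃ e, IsRat F₀ e ∧ φ₀ ⬝ᵥ e = 0 ∧ ψ ⬝ᵥ e ≠ 0
    · obtain ⟨e, he, he0, hψe⟩ := he
      exact ⟨_, hψe, hT.comm (hM e φ₀ he hφ he0) hφx⟩
    push Not at he
    obtain ⟨l, hl⟩ := Function.ne_iff.1 hφ0
    have hprop : ∀ t, ψ t = φ₀ t * (ψ l / φ₀ l) := by
      intro t
      have := he (Pi.single t 1 - Pi.single l (φ₀ t / φ₀ l))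
        (fun u => sub_mem (isRat_single t (one_mem _) u) (isRat_single l (div_mem (hφ t) (hφ l)) u))
        (by rw [dotProduct_sub, dotProduct_single, dotProduct_single, mul_one, mul_div_cancel₀ _ hl, sub_self])
      rw [dotProduct_sub, dotProduct_single, dotProduct_single, mul_one, sub_eq_zero] at this
      rw [this]; ring
    refine ⟨ψ l / φ₀ l, fun e => hij (by rw [hprop j, e, mul_zero, mul_zero]; exact zero_mem _),
      hT.congr (by rw [dotProduct_smul, hφx, smul_zero]) fun v => ?_⟩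
    have e : ψ ⬝ᵥ v = (ψ l / φ₀ l) * (φ₀ ⬝ᵥ v) := by
      rw [← smul_eq_mul, ← smul_dotProduct]
      exact congrArg (· ⬝ᵥ v) (funext fun t => by rw [hprop t, Pi.smul_apply, smul_eq_mul, mul_comm])
    rw [e, smul_smul, mul_comm]
  obtain ⟨t, ht⟩ : ∃ t, c * x t ∉ F₀ := by
    by_contra h
    push Not at h
    exact hx c⁻¹ (c • x) h (by rw [smul_smul, inv_mul_cancel₀ hc, one_smul])
  obtain ⟨e, he, he0, heφ, het⟩ := exists_rat_perp hn hφ t
  rw [dotProduct_comm] at heφ
  refine ⟨c * x t, ht, e, φ₀, he, hφ, he0, hφ0, heφ, ?_⟩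
  have := (hM e (Pi.single t 1) he (isRat_single t (one_mem _)) (by rw [single_dotProduct, het, mul_zero])).comm hTc heφ
  rwa [single_dotProduct, one_mul, Pi.smul_apply, smul_eq_mul] at this

end

section
variable {ι : Type} [Fintype ι] [DecidableEq ι] {F : Type*} [Field F] [Fintype F] {F₀ : Subfield F}
  {M : Subgroup (GL ι F)}

theorem sl_le_of_elementary (hM : RatMem F₀ M) (hn : 3 ≤ Fintype.card ι) {r : ℕ} (hr : r.Prime)
    (hcard : Fintype.card F = Nat.card F₀ ^ r) {μ : F} (hμ : μ ∉ F₀) {i j : ι} (hij : i ≠ j)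
    (hT : HasT M (μ • Pi.single i 1) (Pi.single j 1)) : Cfsg.Geo.specialLinear ι F ≤ M := by
  let L : Set F := {ν | ∀ k l : ι, k ≠ l → HasT M (ν • Pi.single k 1) (Pi.single l 1)}
  have hF₀ : ∀ c ∈ F₀, c ∈ L := fun c hc k l hkl => by
    refine hM _ _ ((isRat_single k (one_mem _)).smul hc) (isRat_single l (one_mem _)) ?_
    simp [hkl.symm]
  let R : Subring F :=
    { carrier := L
      one_mem' := hF₀ 1 (one_mem _)
      zero_mem' := hF₀ 0 (zero_mem _)
      add_mem' := fun {a b} ha hb k l hkl => by rw [add_smul]; exact (ha k l hkl).add (hb k l hkl)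
      neg_mem' := fun {a} ha k l hkl => by rw [neg_smul]; exact (ha k l hkl).neg
      mul_mem' := fun {a b} ha hb k l hkl => by
        obtain ⟨m, hmk, hml⟩ := exists_third hn k l
        have := (ha k m hmk.symm).comm (hb m l hml) (by simp [single_dotProduct, hkl.symm])
        simpa [single_dotProduct, smul_smul, mul_comm] using this }
  have hall : ∀ c, c ∈ R := eq_top_of_prime_degree hr hcard R hF₀ (elementary_all hM hn hij hT) hμ
  intro s hs
  obtain ⟨S, rfl⟩ : s ∈ (SpecialLinearGroup.toGL : SpecialLinearGroup ι F →* GL ι F).range :=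
    ker_glDet_eq_range_toGL (F := F) (n := ι) ▸ hs
  have htop : M.comap (SpecialLinearGroup.toGL : SpecialLinearGroup ι F →* GL ι F) = ⊤ := by
    refine CfsgLib.Classical.sl_subgroup_eq_top _ fun a b hab c => ?_
    obtain ⟨h0, hm⟩ := hall c a b hab
    rw [Subgroup.mem_comap]
    convert hm using 1
    refine Units.ext (Matrix.ext_iff_mulVec.2 fun v => ?_)
    rw [trGL_mulVec]
    show (1 + Matrix.single a b c) *ᵥ v = _
    rw [add_mulVec, one_mulVec, single_mulVec, single_dotProduct, one_mul]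
    ext k
    by_cases hk : k = a
    · simp [hk, Function.update, mul_comm]
    · simp [hk, Function.update]
  exact (htop ▸ Subgroup.mem_top S : S ∈ M.comap _)

/-- A transvection with nonrational entries and independent centre coordinates gives a rational centre. -/
theorem exists_scalar_of_full (hM : RatMem F₀ M) (hn : 3 ≤ Fintype.card ι) {r : ℕ} (hr : r.Prime)
    (hcard : Fintype.card F = Nat.card F₀ ^ r) {x ψ : ι → F} (hT : HasT M x ψ)
    (hfull : ∀ φ, IsRat F₀ φ → φ ⬝ᵥ x = 0 → φ = 0) (hbad : ∃ i j, x i * ψ j ∉ F₀) :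
    ∃ μ, μ ∉ F₀ ∧ ∃ a β : ι → F, IsRat F₀ a ∧ IsRat F₀ β ∧ a ≠ 0 ∧ β ≠ 0 ∧ β ⬝ᵥ a = 0 ∧ HasT M (μ • a) β := by
  classical
  obtain ⟨i₁, j₁, hb⟩ := hbad
  obtain ⟨i₀, hi₀⟩ : ∃ i₀, ψ i₀ ≠ 0 := ⟨j₁, fun e => hb (by rw [e, mul_zero]; exact zero_mem _)⟩
  set e : ι → F := Pi.single i₀ 1 with he
  have hψe : ψ ⬝ᵥ e = ψ i₀ := by rw [he, dotProduct_single, mul_one]
  -- the values at `x` of the rational axes through `e`
  let Λ : AddSubgroup F :=
    { carrier := {b | ∃ φ, IsRat F₀ φ ∧ φ i₀ = 0 ∧ φ ⬝ᵥ x = b}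
      zero_mem' := ⟨0, fun _ => zero_mem _, rfl, zero_dotProduct x⟩
      add_mem' := by
        rintro _ _ ⟨φ, h1, h2, rfl⟩ ⟨φ', h1', h2', rfl⟩
        exact ⟨φ + φ', fun i => add_mem (h1 i) (h1' i), by simp [h2, h2'], add_dotProduct _ _ _⟩
      neg_mem' := by
        rintro _ ⟨φ, h1, h2, rfl⟩
        exact ⟨-φ, fun i => neg_mem (h1 i), by simp [h2], neg_dotProduct _ _⟩ }
  have hΛcard : Nat.card F₀ ^ 2 ≤ Nat.card Λ := by
    let ext : ({t : ι // t ≠ i₀} → F₀) → Λ := fun c =>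
      ⟨(fun t => if h : t = i₀ then 0 else (c ⟨t, h⟩ : F)) ⬝ᵥ x, _,
        fun t => by split_ifs with h <;> [exact zero_mem _; exact (c ⟨t, h⟩).2], by simp, rfl⟩
    have hinj : Function.Injective ext := by
      intro c c' h
      have h0 := hfull _ (fun t => sub_mem
        (show (if h : t = i₀ then (0 : F) else (c ⟨t, h⟩ : F)) ∈ F₀ by
          split_ifs with h <;> [exact zero_mem _; exact (c ⟨t, h⟩).2])
        (show (if h : t = i₀ then (0 : F) else (c' ⟨t, h⟩ : F)) ∈ F₀ by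
          split_ifs with h <;> [exact zero_mem _; exact (c' ⟨t, h⟩).2]))
        (show ((fun t => if h : t = i₀ then (0 : F) else (c ⟨t, h⟩ : F)) -
          fun t => if h : t = i₀ then (0 : F) else (c' ⟨t, h⟩ : F)) ⬝ᵥ x = 0 by
          rw [sub_dotProduct, sub_eq_zero]; exact congrArg Subtype.val h)
      funext ⟨t, ht⟩
      exact Subtype.ext (sub_eq_zero.1 (by simpa [ht] using congrFun h0 t))
    refine le_trans ?_ (Nat.card_le_card_of_injective ext hinj)
    rw [Nat.card_fun]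
    refine Nat.pow_le_pow_right Nat.card_pos ?_
    rw [Nat.card_eq_fintype_card, Fintype.card_subtype_compl, Fintype.card_subtype_eq]
    omega
  have h8 : 8 ≤ Nat.card Λ ∨ Even (Fintype.card F) ∧ 4 ≤ Nat.card Λ := by
    rcases Nat.lt_or_ge (Nat.card F₀) 3 with h | h
    · have h2 : Nat.card F₀ = 2 := le_antisymm (by omega) Finite.one_lt_card
      refine Or.inr ⟨?_, le_trans (by rw [h2]; norm_num) hΛcard⟩
      rw [hcard, h2]
      exact (Nat.even_pow' hr.pos.ne').2 even_two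
    · exact Or.inl (le_trans (by norm_num) (le_trans (Nat.pow_le_pow_left h 2) hΛcard))
  -- the group induced on the plane
  let K₀ : Submonoid SL(2, F) :=
    { carrier := {k | ∃ m ∈ M,
        (m : Matrix ι ι F) *ᵥ e = (k : Matrix (Fin 2) (Fin 2) F) 0 0 • e + (k : Matrix (Fin 2) (Fin 2) F) 1 0 • x ∧
        (m : Matrix ι ι F) *ᵥ x = (k : Matrix (Fin 2) (Fin 2) F) 0 1 • e + (k : Matrix (Fin 2) (Fin 2) F) 1 1 • x}
      one_mem' := ⟨1, M.one_mem, by simp, by simp⟩
      mul_mem' := by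
        rintro k k' ⟨m, hm, h1, h2⟩ ⟨m', hm', h1', h2'⟩
        refine ⟨m * m', M.mul_mem hm hm', ?_, ?_⟩
        · rw [Units.val_mul, ← mulVec_mulVec, h1', mulVec_add, mulVec_smul, mulVec_smul, h1, h2]
          show _ = ((k : Matrix (Fin 2) (Fin 2) F) * (k' : Matrix (Fin 2) (Fin 2) F)) 0 0 • e + ((k : Matrix (Fin 2) (Fin 2) F) * (k' : Matrix (Fin 2) (Fin 2) F)) 1 0 • x
          simp only [Matrix.mul_apply, Fin.sum_univ_two]
          module
        · rw [Units.val_mul, ← mulVec_mulVec, h2', mulVec_add, mulVec_smul, mulVec_smul, h1, h2]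
          show _ = ((k : Matrix (Fin 2) (Fin 2) F) * (k' : Matrix (Fin 2) (Fin 2) F)) 0 1 • e + ((k : Matrix (Fin 2) (Fin 2) F) * (k' : Matrix (Fin 2) (Fin 2) F)) 1 1 • x
          simp only [Matrix.mul_apply, Fin.sum_univ_two]
          module }
  let K : Subgroup SL(2, F) :=
    { K₀ with
      inv_mem' := fun {k} hk => by
        have e : k⁻¹ = k ^ (orderOf k - 1) := inv_eq_of_mul_eq_one_right (by
          rw [← pow_succ', Nat.sub_add_cancel (orderOf_pos k), pow_orderOf_eq_one])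
        show k⁻¹ ∈ K₀
        rw [e]
        exact pow_mem hk _ }
  have hup : ∀ b ∈ Λ, upper b ∈ K := by
    rintro b ⟨φ, hφ, hφi, hφx⟩
    obtain ⟨h0, hm⟩ := hM e φ (isRat_single i₀ (one_mem _)) hφ (by rw [he, dotProduct_single, hφi, zero_mul])
    refine ⟨_, hm, ?_, ?_⟩
    · rw [trGL_mulVec, h0]; simp [upper]
    · rw [trGL_mulVec, hφx]; simp [upper]; abel
  obtain ⟨h0, hm⟩ := hT
  let w : SL(2, F) := ⟨!![1, 0; ψ i₀, 1], by simp⟩
  have hw : w ∈ K := by
    refine ⟨_, hm, ?_, ?_⟩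
    · rw [trGL_mulVec, hψe]; simp [w]
    · rw [trGL_mulVec, h0]; simp [w]
  obtain ⟨k, ⟨m, hmM, hme, hmx⟩, hk0, hksq⟩ := exists_borel_outside' K Λ hup hw (by simpa [w] using hi₀) F₀
    h8 hΛcard
  set γ := (k : Matrix (Fin 2) (Fin 2) F) 0 0
  have hdet : γ * (k : Matrix (Fin 2) (Fin 2) F) 1 1 = 1 := by
    have := k.det_coe
    rwa [det_fin_two, hk0, mul_zero, sub_zero] at this
  rw [hk0, zero_smul, add_zero] at hme
  -- a nonrational transvection with centre `e`
  by_contra hno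
  have hstab : ∀ b ∈ Λ, γ * γ * b ∈ Λ := by
    rintro b ⟨φ, hφ, hφi, rfl⟩
    set θ := γ • (φ ᵥ* ((m⁻¹ : GL ι F) : Matrix ι ι F)) with hθ
    have hθdot : ∀ v, θ ⬝ᵥ ((m : Matrix ι ι F) *ᵥ v) = γ * (φ ⬝ᵥ v) := fun v => by
      rw [hθ, smul_dotProduct, smul_eq_mul, ← dotProduct_mulVec, mulVec_mulVec, ← Units.val_mul, inv_mul_cancel,
        Units.val_one, one_mulVec]
    have hγ0 : γ ≠ 0 := left_ne_zero_of_mul_eq_one hdet
    have hφe : φ ⬝ᵥ e = 0 := by rw [he, dotProduct_single, hφi, zero_mul]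
    have hθe : θ ⬝ᵥ e = 0 := by
      have := hθdot e
      rw [hme, dotProduct_smul, hφe, mul_zero, smul_eq_mul] at this
      exact (mul_eq_zero.1 this).resolve_left hγ0
    have hθx : θ ⬝ᵥ x = γ * γ * (φ ⬝ᵥ x) := by
      have := hθdot x
      rw [hmx, dotProduct_add, dotProduct_smul, dotProduct_smul, hθe, smul_zero, zero_add, smul_eq_mul] at this
      linear_combination γ * this - (θ ⬝ᵥ x) * hdet
    have hTθ : HasT M e θ := by
      obtain ⟨h1, hm1⟩ := hM e φ (isRat_single i₀ (one_mem _)) hφ hφe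
      have h2 := mul_mem (mul_mem hmM hm1) (inv_mem hmM)
      rw [conj_trGL] at h2
      refine HasT.congr ⟨_, h2⟩ hθe fun v => ?_
      rw [hme, hθ, smul_dotProduct, smul_eq_mul, mul_comm, mul_smul]
    refine ⟨θ, fun t => ?_, ?_, hθx⟩
    · by_contra ht
      exact hno (exists_scalar_of_rat_centre hM (by omega) (isRat_single i₀ (one_mem _))
        (by simp) hTθ ht)
    · simpa [he] using hθe
  let R : Subring F :=
    { carrier := {c | ∀ b ∈ Λ, c * b ∈ Λ}
      one_mem' := fun b hb => by rwa [one_mul]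
      zero_mem' := fun b _ => by rw [zero_mul]; exact zero_mem Λ
      add_mem' := fun {a c} ha hc b hb => by rw [add_mul]; exact add_mem (ha b hb) (hc b hb)
      neg_mem' := fun {a} ha b hb => by rw [neg_mul]; exact neg_mem (ha b hb)
      mul_mem' := fun {a c} ha hc b hb => by rw [mul_assoc]; exact ha _ (hc b hb) }
  have hR : ∀ c, c ∈ R := eq_top_of_prime_degree hr hcard R
    (fun c hc b hb => by
      obtain ⟨φ, hφ, hφi, rfl⟩ := hb
      exact ⟨c • φ, hφ.smul hc, by simp [hφi], by rw [smul_dotProduct, smul_eq_mul]⟩)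
    (show γ * γ ∈ R from hstab) (by rwa [← pow_two])
  obtain ⟨l, hl, -⟩ := exists_third (show 3 ≤ Fintype.card ι by omega) i₀ i₀
  have hxl : x l ≠ 0 := fun h => by
    have := hfull (Pi.single l 1) (isRat_single l (one_mem _)) (by rw [single_dotProduct, h, mul_zero])
    simp at this
  obtain ⟨φ, hφ, hφi, hφx⟩ := hR (x i₀ / x l) (x l) ⟨Pi.single l 1, isRat_single l (one_mem _),
    by simp [hl.symm], by rw [single_dotProduct, one_mul]⟩
  rw [div_mul_cancel₀ _ hxl] at hφx
  have h1 := hfull (φ - Pi.single i₀ 1) (fun t => sub_mem (hφ t) (isRat_single i₀ (one_mem _) t))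
    (by rw [sub_dotProduct, single_dotProduct, hφx, one_mul, sub_self])
  have h2 := congrFun h1 i₀
  simp [hφi] at h2

/-- Above the subfield group there is all of `SL`. -/
theorem sl_le (hM : RatMem F₀ M) (hn : 3 ≤ Fintype.card ι) {r : ℕ} (hr : r.Prime)
    (hcard : Fintype.card F = Nat.card F₀ ^ r) {g : GL ι F} (hg : g ∈ M)
    (hnot : ¬ ∃ c : F, c ≠ 0 ∧ ∀ a b, c * (g : Matrix ι ι F) a b ∈ F₀) : Cfsg.Geo.specialLinear ι F ≤ M := by
  obtain ⟨x, ψ, hT, hbad⟩ : ∃ x ψ : ι → F, HasT M x ψ ∧ ∃ i j, x i * ψ j ∉ F₀ := by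
    by_contra h
    push Not at h
    set Gi := ((g⁻¹ : GL ι F) : Matrix ι ι F) with hGi
    have hoff : ∀ i j, i ≠ j → ∀ a b, (g : Matrix ι ι F) a i * Gi j b ∈ F₀ := by
      intro i j hij a b
      obtain ⟨h1, hm1⟩ := hM (Pi.single i 1) (Pi.single j 1) (isRat_single i (one_mem _)) (isRat_single j (one_mem _))
        (by simp [hij.symm])
      have h2 := mul_mem (mul_mem hg hm1) (inv_mem hg)
      rw [conj_trGL] at h2
      simpa [← hGi] using h _ _ ⟨_, h2⟩ a b
    have hone : (g : Matrix ι ι F) * Gi = 1 := by rw [hGi, ← Units.val_mul, mul_inv_cancel, Units.val_one]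
    have hone' : Gi * (g : Matrix ι ι F) = 1 := by rw [hGi, ← Units.val_mul, inv_mul_cancel, Units.val_one]
    have hall : ∀ i j a b, (g : Matrix ι ι F) a i * Gi j b ∈ F₀ := by
      intro i j a b
      by_cases hij : i = j
      · subst hij
        obtain ⟨l, hl, -⟩ := exists_third (show 3 ≤ Fintype.card ι by omega) i i
        -- `g E_il E_li g⁻¹`
        have e : (∑ c, (g : Matrix ι ι F) a i * Gi l c * ((g : Matrix ι ι F) c l * Gi i b)) =
            (g : Matrix ι ι F) a i * Gi i b := by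
          have h1 : ∑ c, Gi l c * (g : Matrix ι ι F) c l = 1 := by
            rw [← Matrix.mul_apply, hone', one_apply_eq]
          rw [← mul_one ((g : Matrix ι ι F) a i * Gi i b), ← h1, Finset.mul_sum]
          exact Finset.sum_congr rfl fun c _ => by ring
        rw [← e]
        exact Subfield.sum_mem _ fun c _ => mul_mem (hoff i l hl.symm a c) (hoff l i hl c b)
      · exact hoff i j hij a b
    obtain ⟨i₀⟩ : Nonempty ι := Fintype.card_pos_iff.1 (by omega)
    obtain ⟨b, hb⟩ : ∃ b, Gi i₀ b ≠ 0 := by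
      by_contra hz
      push Not at hz
      have := congrFun (congrFun hone' i₀) i₀
      simp [Matrix.mul_apply, hz] at this
    exact hnot ⟨Gi i₀ b, hb, fun a i => by rw [mul_comm]; exact hall i i₀ a b⟩
  obtain ⟨μ, hμ, a, β, ha, hβ, ha0, hβ0, hβa, hTμ⟩ : ∃ μ, μ ∉ F₀ ∧ ∃ a β : ι → F, IsRat F₀ a ∧ IsRat F₀ β ∧
      a ≠ 0 ∧ β ≠ 0 ∧ β ⬝ᵥ a = 0 ∧ HasT M (μ • a) β := by
    by_cases h : ∃ φ, IsRat F₀ φ ∧ φ ≠ 0 ∧ φ ⬝ᵥ x = 0
    · obtain ⟨φ, h1, h2, h3⟩ := h
      exact exists_scalar_of_annihilator hM (by omega) hT h1 h2 h3 hbad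
    · push Not at h
      exact exists_scalar_of_full hM hn hr hcard hT (fun φ h1 h2 => by_contra fun h3 => h φ h1 h3 h2) hbad
  obtain ⟨i, j, hij, hel⟩ := exists_elementary hM (by omega) ha hβ ha0 hβ0 hβa hTμ
  exact sl_le_of_elementary hM (by omega) hr hcard hμ hij hel

end

end CfsgLib.Classical.GeoFour.Subfield
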