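import Cfsg.Agent.Lib.Classical.HermGSimMax
import Cfsg.Agent.Lib.Classical.GeoFour.Full

/-!
# The unitary similarity group is maximal in `SL` in dimension four
-/

set_option autoImplicit false
set_option linter.unusedSectionVars false

open Module Matrix

namespace CfsgLib.Classical.GeoFour.UnitFour

variable {F : Type*} [Field F] [Finite F] {σ : F →+* F} {n : ℕ}
  {B : (Fin n → F) →ₛₗ[σ] (Fin n → F) →ₗ[F] F} {M : Subgroup (GL (Fin n) F)}

variable (B M) in
/-- The transvection with centre `a` and axis `B b` lies in `M`. -/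
def GoodPair (a b : Fin n → F) : Prop := ∀ hab, trGL a (funVec (B b)) hab ∈ M

theorem hdot {a b : Fin n → F} (e : B b a = 0) : funVec (B b) ⬝ᵥ a = 0 := by rw [funVec_dot]; exact e

theorem good_congr {a b a' b' : Fin n → F} (h : GoodPair B M a b) (e : B b a = 0)
    (he : ∀ x, B b' x • a' = B b x • a) : GoodPair B M a' b' := fun hab => by
  rw [trGL_congr (h' := hdot e) fun x => by rw [funVec_dot, funVec_dot]; exact he x]
  exact h (hdot e)

theorem good_zero_left (b : Fin n → F) : GoodPair B M 0 b := fun _ => by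
  rw [trGL_eq_one_of (Or.inl rfl)]; exact M.one_mem

theorem good_zero_right (a : Fin n → F) : GoodPair B M a 0 := fun _ => by
  rw [trGL_eq_one_of (Or.inr (funext fun i => by simp [funVec]))]; exact M.one_mem

theorem good_add_right {a b b' : Fin n → F} (e : B b a = 0) (e' : B b' a = 0) (h1 : GoodPair B M a b)
    (h2 : GoodPair B M a b') : GoodPair B M a (b + b') := by
  intro hab
  convert M.mul_mem (h1 (hdot e)) (h2 (hdot e')) using 1
  refine Units.ext (Matrix.ext_iff_mulVec.2 fun x => ?_)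
  rw [Units.val_mul, ← mulVec_mulVec, trGL_mulVec, trGL_mulVec, trGL_mulVec, funVec_dot, funVec_dot, funVec_dot]
  simp only [map_add, map_smul, LinearMap.add_apply, e, smul_eq_mul, mul_zero, add_zero]
  module

theorem good_add_left {a a' b : Fin n → F} (e : B b a = 0) (e' : B b a' = 0) (h1 : GoodPair B M a b)
    (h2 : GoodPair B M a' b) : GoodPair B M (a + a') b := by
  intro hab
  convert M.mul_mem (h1 (hdot e)) (h2 (hdot e')) using 1
  refine Units.ext (Matrix.ext_iff_mulVec.2 fun x => ?_)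
  rw [Units.val_mul, ← mulVec_mulVec, trGL_mulVec, trGL_mulVec, trGL_mulVec, funVec_dot, funVec_dot,
    map_add, map_smul, e', smul_zero, add_zero]
  module

theorem good_neg {a b : Fin n → F} (e : B b a = 0) (h1 : GoodPair B M a b) :
    GoodPair B M a (-b) ∧ GoodPair B M (-a) b := by
  have key : GoodPair B M (-a) b := fun hab => by
    convert M.inv_mem (h1 (hdot e)) using 1
    refine eq_inv_of_mul_eq_one_left (Units.ext (Matrix.ext_iff_mulVec.2 fun x => ?_))
    rw [Units.val_mul, ← mulVec_mulVec, trGL_mulVec, trGL_mulVec, Units.val_one, one_mulVec, funVec_dot, funVec_dot,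
      map_add, map_smul, e, smul_zero, add_zero]
    module
  refine ⟨good_congr key (by rw [map_neg, e, neg_zero]) fun x => ?_, key⟩
  rw [map_neg, LinearMap.neg_apply, neg_smul, smul_neg]

/-- Transport by an isometry of determinant one. -/
theorem good_map (hM : ∀ t : isomGroup B, idet B t = 1 → linToGL t.1 ∈ M) {a b : Fin n → F} (e : B b a = 0)
    (h : GoodPair B M a b) {k : isomGroup B} (hk : idet B k = 1) : GoodPair B M (k.1 a) (k.1 b) := by
  intro hab
  have hT := M.mul_mem (M.mul_mem (hM _ hk) (h (hdot e))) (M.inv_mem (hM _ hk))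
  convert hT using 1
  refine Units.ext (Matrix.ext_iff_mulVec.2 fun x => ?_)
  have hx : k.1 ((k⁻¹ : isomGroup B).1 x) = x := k.1.apply_symm_apply x
  have hb : B b ((k⁻¹ : isomGroup B).1 x) = B (k.1 b) x := by rw [← k.2 b, hx]
  rw [Units.val_mul, Units.val_mul, ← mulVec_mulVec, ← mulVec_mulVec, ← map_inv, ← Subgroup.coe_inv,
    linToGL_mulVec, linToGL_mulVec, trGL_mulVec, trGL_mulVec, funVec_dot, funVec_dot, map_add, map_smul, hx, hb]

variable (h : IsHermitian B)
include h

theorem good_scale {a b : Fin n → F} {l : F} (e : B b a = 0) (h1 : GoodPair B M (l • a) b) :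
    GoodPair B M a (σ l • b) :=
  good_congr h1 (by rw [map_smul, e, smul_zero]) fun x => by
    rw [map_smulₛₗ, LinearMap.smul_apply, h.conj.invol, smul_eq_mul, smul_smul, mul_comm]

/-- One independent pair. -/
theorem exists_pair (hN : B.SeparatingRight) (hn : 2 ≤ n)
    (hM : ∀ t : isomGroup B, idet B t = 1 → linToGL t.1 ∈ M) {g : GL (Fin n) F} (hg : g ∈ M)
    (hgs : ¬ ∃ c : Fˣ, ∀ u v, B ((g : Matrix (Fin n) (Fin n) F) *ᵥ u) ((g : Matrix (Fin n) (Fin n) F) *ᵥ v) = c * B u v) :
    ∃ a b : Fin n → F, LinearIndependent F ![a, b] ∧ B b a = 0 ∧ GoodPair B M a b := by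
  have hV : finrank F (Fin n → F) = n := Module.finrank_fin_fun F
  have hnd : NondegOn B (⊤ : Submodule F (Fin n → F)) :=
    nondegOn_iff.2 fun y _ hy => hN y fun w => hy w trivial
  have hinj : ∀ x, (g : Matrix (Fin n) (Fin n) F) *ᵥ x = 0 → x = 0 := fun x hx => by
    have := congrArg (fun y => ((g⁻¹ : GL (Fin n) F) : Matrix (Fin n) (Fin n) F) *ᵥ y) hx
    simpa [mulVec_mulVec, ← Units.val_mul] using this
  have hgi : ∀ x, (g : Matrix (Fin n) (Fin n) F) *ᵥ (((g⁻¹ : GL (Fin n) F) : Matrix (Fin n) (Fin n) F) *ᵥ x) = x :=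
    fun x => by rw [mulVec_mulVec, ← Units.val_mul, mul_inv_cancel, Units.val_one, one_mulVec]
  have hig : ∀ x, ((g⁻¹ : GL (Fin n) F) : Matrix (Fin n) (Fin n) F) *ᵥ ((g : Matrix (Fin n) (Fin n) F) *ᵥ x) = x :=
    fun x => by rw [mulVec_mulVec, ← Units.val_mul, inv_mul_cancel, Units.val_one, one_mulVec]
  obtain ⟨c, hc0, hc⟩ := h.conj.exists_trace_zero
  by_contra! hcon
  set G := fun x => (g : Matrix (Fin n) (Fin n) F) *ᵥ x with hG
  have hprop : ∀ v, B v v = 0 → v ≠ 0 → ∃ μ : F, ∀ y, B (G v) (G y) = μ * B v y := by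
    intro v hv hv0
    obtain ⟨b, hb⟩ := h.exists_form_eq hN
      ((B v).comp (Matrix.toLin' ((g⁻¹ : GL (Fin n) F) : Matrix (Fin n) (Fin n) F)))
    have hb' : ∀ y, B b (G y) = B v y := fun y => by
      simp only [hG]; rw [hb, LinearMap.comp_apply, toLin'_apply, hig]
    obtain ⟨t, ht⟩ := h.exists_uTv hN hv hc
    have htM := M.mul_mem (M.mul_mem hg (hM t (h.idet_uTv ht))) (M.inv_mem hg)
    have hgv : G v ≠ 0 := fun e => hv0 (hinj v e)
    have hbv : B b (G v) = 0 := by rw [hb', hv]
    have hgood : GoodPair B M (G v) (σ c • b) := fun hab => by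
      convert htM using 1
      refine Units.ext (Matrix.ext_iff_mulVec.2 fun x => ?_)
      rw [Units.val_mul, Units.val_mul, ← mulVec_mulVec, ← mulVec_mulVec, trGL_mulVec, funVec_dot, linToGL_mulVec,
        ht.2.2, mulVec_add, mulVec_smul, hgi, map_smulₛₗ, LinearMap.smul_apply, h.conj.invol, hb, smul_eq_mul]
      rfl
    have hdep : ¬ LinearIndependent F ![G v, σ c • b] := fun hli =>
      hcon _ _ hli (by rw [map_smulₛₗ, LinearMap.smul_apply, hbv, smul_zero]) hgood
    rw [LinearIndependent.pair_iff' hgv] at hdep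
    push Not at hdep
    obtain ⟨s, hs⟩ := hdep
    have hs0 : s ≠ 0 := fun e => by
      rw [e, zero_smul] at hs
      have hb0 : b = 0 := (smul_eq_zero.1 hs.symm).resolve_left fun e' => hc0 (by
        rw [← h.conj.invol c, e', map_zero])
      obtain ⟨w, -, -, hvw⟩ := h.exists_partner hnd trivial hv0 hv
      have := hb' w
      rw [hb0, hvw] at this
      simp at this
    refine ⟨c / σ s, fun y => ?_⟩
    have h1 : B (s • G v) (G y) = B (σ c • b) (G y) := by rw [hs]
    rw [map_smulₛₗ, map_smulₛₗ, LinearMap.smul_apply, LinearMap.smul_apply, h.conj.invol, hb', smul_eq_mul,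
      smul_eq_mul] at h1
    have hs' : σ s ≠ 0 := fun e => hs0 (by rw [← h.conj.invol s, e, map_zero])
    field_simp
    linear_combination h1
  have hμ : ∀ {u v : Fin n → F}, B u u = 0 → B v v = 0 → B u v ≠ 0 → ∀ {μ ν : F},
      (∀ y, B (G u) (G y) = μ * B u y) → (∀ y, B (G v) (G y) = ν * B v y) → μ = σ ν := by
    intro u v _ _ huv μ ν h1 h2
    refine mul_right_cancel₀ huv ?_
    rw [← h1, ← h.symm (G v) (G u), h2, map_mul, h.symm]
  obtain ⟨e, f, -, -, hee, hff, hef⟩ := h.exists_hyp_in hnd (by rw [finrank_top, hV]; omega)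
  have he0 : e ≠ 0 := fun e' => by simp [e'] at hef
  obtain ⟨μ, hμe⟩ := hprop e hee he0
  have hall : ∀ v, B v v = 0 → ∀ y, B (G v) (G y) = μ * B v y := by
    intro v hv
    by_cases hv0 : v = 0
    · intro y; simp [hG, hv0]
    obtain ⟨z, -, hzz, hez, hvz⟩ := h.exists_common_nonorth hnd (U := ⊤) (u := e) (v := v) trivial trivial he0 hv0 hee hv
    obtain ⟨ν, hν⟩ := hprop z hzz fun e' => by simp [e'] at hez
    obtain ⟨κ, hκ⟩ := hprop v hv hv0
    rw [hμ hee hzz hez hμe hν, ← hμ hv hzz hvz hκ hν]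
    exact hκ
  have hf0 : f ≠ 0 := fun e' => by simp [e'] at hef
  have hμσ : σ μ = μ := (hμ hee hff (by rw [hef]; exact one_ne_zero) hμe (hall f hff)).symm
  have hμ0 : μ ≠ 0 := by
    intro e0
    refine he0 (hinj e (hN _ fun w => h.isRefl _ _ ?_))
    have := hμe (((g⁻¹ : GL (Fin n) F) : Matrix (Fin n) (Fin n) F) *ᵥ w)
    rw [e0, zero_mul] at this
    simpa [hG, hgi] using this
  refine hgs ⟨Units.mk0 μ hμ0, fun u v => ?_⟩
  have hu := h.le_span_isotropic hnd (by rw [finrank_top, hV]; omega) (Submodule.mem_top (x := u))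
  rw [Units.val_mk0]
  induction hu using Submodule.span_induction with
  | mem x hx => exact hall x hx.2 v
  | zero => simp
  | add x y _ _ hx hy => simp only [mulVec_add, map_add, LinearMap.add_apply, hx, hy]; ring
  | smul r x _ hx => simp only [mulVec_smul, map_smulₛₗ, LinearMap.smul_apply, hx, smul_eq_mul]; ring
omit h in
theorem polar_zero_of_isotropic (h : IsHermitian B) {W : Submodule F (Fin n → F)} (hW : ∀ x ∈ W, B x x = 0)
    {x y : Fin n → F} (hx : x ∈ W) (hy : y ∈ W) : B x y = 0 := by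
  by_contra hxy
  rcases h.exists_self_ne_zero hxy with e | e | ⟨c, e⟩
  · exact e (hW x hx)
  · exact e (hW y hy)
  · exact e (hW _ (W.add_mem hx (W.smul_mem c hy)))

/-- A set invariant under the isometries fixing an anisotropic vector fills its perpendicular space. -/
theorem all_of_invariant (hN : B.SeparatingRight) (hn : n = 4) {a : Fin n → F} (ha : B a a ≠ 0)
    (Λ : AddSubgroup (Fin n → F))
    (hinv : ∀ k : isomGroup B, idet B k = 1 → k.1 a = a → ∀ x ∈ Λ, k.1 x ∈ Λ) {x₀ : Fin n → F} (hx₀ : x₀ ∈ Λ)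
    (hax : B a x₀ = 0) (h0 : x₀ ≠ 0) {y : Fin n → F} (hy : B a y = 0) : y ∈ Λ := by
  classical
  have hV : finrank F (Fin n → F) = 4 := by rw [Module.finrank_fin_fun, hn]
  set U := perp B (Submodule.span F {a})
  have hU : ∀ {z}, z ∈ U ↔ B a z = 0 := fun {z} => by
    refine ⟨fun hz => mem_perp.1 hz a (Submodule.mem_span_singleton_self a), fun hz => mem_perp.2 fun w hw => ?_⟩
    obtain ⟨c, rfl⟩ := Submodule.mem_span_singleton.1 hw
    rw [map_smulₛₗ, LinearMap.smul_apply, hz, smul_zero]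
  have hnd : NondegOn B U := nondegOn_perp hN (h.nondegOn_span_singleton ha)
  have hUd : 2 ≤ finrank F U := by
    have h2 := finrank_le_finrank_perp_add B (Submodule.span F {a})
    have h1 : finrank F (Submodule.span F {a}) ≤ 1 := by
      refine (finrank_span_le_card _).trans ?_
      simp
    change 2 ≤ finrank F (perp B (Submodule.span F {a}))
    omega
  -- all multiples of an isotropic vector not orthogonal to a member
  have step : ∀ {x v : Fin n → F}, x ∈ Λ → v ∈ U → B v v = 0 → B v x ≠ 0 → ∀ l : F, l • v ∈ Λ := by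
    intro x v hx hv hvv hvx l
    have hv0 : v ≠ 0 := fun e => hvx (by simp [e])
    have hva : B v a = 0 := h.isRefl _ _ (hU.1 hv)
    obtain ⟨c, hc0, hc⟩ := h.conj.exists_trace_zero
    obtain ⟨t, ht⟩ := h.exists_uTv hN hvv hc
    have h1 := Λ.sub_mem (hinv t (h.idet_uTv ht) (by rw [ht.2.2, hva, mul_zero, zero_smul, add_zero]) x hx) hx
    rw [ht.2.2, add_sub_cancel_left] at h1
    set K := c * B v x
    have hK : K ≠ 0 := mul_ne_zero hc0 hvx
    by_cases hl : l = 0
    · rw [hl, zero_smul]; exact Λ.zero_mem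
    obtain ⟨w, hw, hww, hvw⟩ := h.exists_partner hnd hv hv0 hvv
    have hwv : B w v = 1 := by rw [← h.symm, hvw, map_one]
    have haw : B a w = 0 := hU.1 hw
    have hwa : B w a = 0 := h.isRefl _ _ haw
    have hav : B a v = 0 := hU.1 hv
    set W := perp B (Submodule.span F (({a, v, w} : Finset (Fin n → F)) : Set (Fin n → F)))
    have hW : ∀ {z}, z ∈ W → B a z = 0 ∧ B v z = 0 ∧ B w z = 0 := fun {z} hz =>
      ⟨mem_perp.1 hz a (Submodule.subset_span (by simp)), mem_perp.1 hz v (Submodule.subset_span (by simp)),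
        mem_perp.1 hz w (Submodule.subset_span (by simp))⟩
    obtain ⟨z, hz, hzz⟩ : ∃ z ∈ W, B z z ≠ 0 := by
      by_contra hall
      push Not at hall
      have hle : W ≤ ⊥ := fun z hz => (Submodule.mem_bot F).2 (hN z fun y => by
        obtain ⟨h1, h2, h3⟩ := hW hz
        have hy' : y - (B a y / B a a) • a - B w y • v - B v y • w ∈ W := by
          refine mem_perp_span.2 fun u hu => ?_
          simp only [Finset.coe_insert, Finset.coe_singleton, Set.mem_insert_iff, Set.mem_singleton_iff] at hu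
          rcases hu with rfl | rfl | rfl
          · simp [hav, haw, ha]
          · simp [hva, hvv, hvw]
          · simp [hwa, hww, hwv]
        have h0 := polar_zero_of_isotropic h hall hy' hz
        simpa [h1, h2, h3] using h0)
      have h1 := Submodule.finrank_mono hle
      have h2 := finrank_le_finrank_perp_add B (Submodule.span F (({a, v, w} : Finset (Fin n → F)) : Set (Fin n → F)))
      have h3 := (finrank_span_finset_le_card (R := F) ({a, v, w} : Finset (Fin n → F))).trans Finset.card_le_three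
      have h5 : finrank F ↥(perp B (Submodule.span F (({a, v, w} : Finset (Fin n → F)) : Set (Fin n → F)))) =
        finrank F W := rfl
      rw [finrank_bot] at h1
      simp only [Set.finrank] at h3
      omega
    obtain ⟨hza, hzv, hzw⟩ := hW hz
    set μ := l / K
    have hμ : μ ≠ 0 := div_ne_zero hl hK
    have hσμ : σ μ ≠ 0 := fun e => hμ (by rw [← h.conj.invol μ, e, map_zero])
    obtain ⟨g, hgv, -, hgf, hgd⟩ := h.exists_torus hN hvv hww hvw hμ
    obtain ⟨q, hq, hqd⟩ := h.exists_qr hN hzz (l := σ μ / μ) (by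
      rw [map_div₀ σ (σ μ) μ, h.conj.invol μ]; field_simp)
    have hfix : ∀ u, B z u = 0 → q.1 u = u := fun u hu => by rw [hq, hu, mul_zero, zero_smul, add_zero]
    have hd : idet B (q * g) = 1 := by rw [map_mul, hqd, hgd]; field_simp
    have hka : (q * g).1 a = a := by
      change q.1 (g.1 a) = a
      rw [hgf a hva hwa, hfix a (h.isRefl _ _ hza)]
    have hkv : (q * g).1 v = μ • v := by
      change q.1 (g.1 v) = μ • v
      rw [hgv, map_smul, hfix v (h.isRefl _ _ hzv)]
    have h2 := hinv _ hd hka _ h1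
    rw [map_smul, hkv, smul_smul, show K * μ = l by simp only [μ]; field_simp] at h2
    exact h2
  obtain ⟨v₀, hv₀, hv₀v, hvx⟩ : ∃ v ∈ U, B v v = 0 ∧ B v x₀ ≠ 0 := by
    by_contra hall
    push Not at hall
    refine h0 (hN x₀ fun z => ?_)
    have hz : z - (B a z / B a a) • a ∈ U := hU.2 (by simp [ha])
    have key : ∀ u ∈ Submodule.span F {x | x ∈ U ∧ B x x = 0}, B u x₀ = 0 := fun u hu => by
      induction hu using Submodule.span_induction with
      | mem u hu => exact hall u hu.1 hu.2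
      | zero => simp
      | add u w _ _ hu hw => simp [hu, hw]
      | smul r u _ hu => simp [hu]
    have := key _ (h.le_span_isotropic hnd hUd hz)
    simpa [hax] using this
  have hv00 : v₀ ≠ 0 := fun e => hvx (by simp [e])
  have hv₀Λ : ∀ l : F, l • v₀ ∈ Λ := step hx₀ hv₀ hv₀v hvx
  have hall : ∀ v ∈ U, B v v = 0 → ∀ l : F, l • v ∈ Λ := fun v hv hvv => by
    by_cases hv0 : v = 0
    · intro l; rw [hv0, smul_zero]; exact Λ.zero_mem
    obtain ⟨z, hz, hzz, hz1, hz2⟩ := h.exists_common_nonorth hnd hv₀ hv hv00 hv0 hv₀v hvv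
    have hzΛ := step (hv₀Λ 1) hz hzz (by rw [one_smul]; exact fun e => hz1 (h.isRefl _ _ e))
    exact step (hzΛ 1) hv hvv (by rwa [one_smul])
  let S : Submodule F (Fin n → F) :=
    { carrier := {x | ∀ l : F, l • x ∈ Λ}
      add_mem' := fun {u w} hu hw l => by rw [smul_add]; exact Λ.add_mem (hu l) (hw l)
      zero_mem' := fun l => by rw [smul_zero]; exact Λ.zero_mem
      smul_mem' := fun r u hu l => by rw [smul_smul]; exact hu _ }
  have hyS : y ∈ S := (Submodule.span_le (p := S)).2 (fun v hv => hall v hv.1 hv.2)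
    (h.le_span_isotropic hnd hUd (hU.2 hy))
  have := hyS 1
  rwa [one_smul] at this

/-- All axes for an anisotropic centre. -/
theorem full_of_aniso (hN : B.SeparatingRight) (hn : n = 4)
    (hM : ∀ t : isomGroup B, idet B t = 1 → linToGL t.1 ∈ M) {a b : Fin n → F} (ha : B a a ≠ 0) (e : B b a = 0)
    (hb : b ≠ 0) (hg : GoodPair B M a b) {y : Fin n → F} (hy : B a y = 0) : GoodPair B M a y := by
  let Λ : AddSubgroup (Fin n → F) :=
    { carrier := {x | B x a = 0 ∧ GoodPair B M a x}
      zero_mem' := ⟨by simp, good_zero_right a⟩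
      add_mem' := fun {u w} hu hw => ⟨by rw [map_add, LinearMap.add_apply, hu.1, hw.1, add_zero],
        good_add_right hu.1 hw.1 hu.2 hw.2⟩
      neg_mem' := fun {u} hu => ⟨by rw [map_neg, LinearMap.neg_apply, hu.1, neg_zero], (good_neg hu.1 hu.2).1⟩ }
  refine (all_of_invariant h hN hn ha Λ (fun k hk hka x hx => ⟨?_, ?_⟩) (show b ∈ Λ from ⟨e, hg⟩)
    (h.isRefl _ _ e) hb hy).2
  · rw [← hka, isomGroup_apply]; exact hx.1
  · have := good_map hM hx.1 hx.2 hk
    rwa [hka] at this

/-- An anisotropic centre can be found. -/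
theorem exists_aniso (hN : B.SeparatingRight) (hn : n = 4)
    (hM : ∀ t : isomGroup B, idet B t = 1 → linToGL t.1 ∈ M) {a b : Fin n → F} (hi : LinearIndependent F ![a, b])
    (e : B b a = 0) (hg : GoodPair B M a b) :
    ∃ a b : Fin n → F, B a a ≠ 0 ∧ B b a = 0 ∧ b ≠ 0 ∧ GoodPair B M a b := by
  classical
  have hnd : NondegOn B (⊤ : Submodule F (Fin n → F)) :=
    nondegOn_iff.2 fun y _ hy => hN y fun w => hy w trivial
  have ha0 : a ≠ 0 := hi.ne_zero 0
  have hb0 : b ≠ 0 := hi.ne_zero 1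
  by_cases haa : B a a ≠ 0
  · exact ⟨a, b, haa, e, hb0, hg⟩
  push Not at haa
  have hab : B a b = 0 := h.isRefl _ _ e
  -- once the axis is anisotropic the centres fill its perpendicular space
  suffices ∃ b', B b' b' ≠ 0 ∧ B b' a = 0 ∧ GoodPair B M a b' by
    obtain ⟨b', hb', e', hg'⟩ := this
    let Λ : AddSubgroup (Fin n → F) :=
      { carrier := {x | B b' x = 0 ∧ GoodPair B M x b'}
        zero_mem' := ⟨by simp, good_zero_left b'⟩
        add_mem' := fun {u w} hu hw => ⟨by rw [map_add, hu.1, hw.1, add_zero], good_add_left hu.1 hw.1 hu.2 hw.2⟩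
        neg_mem' := fun {u} hu => ⟨by rw [map_neg, hu.1, neg_zero], (good_neg hu.1 hu.2).2⟩ }
    have hall : ∀ {y}, B b' y = 0 → GoodPair B M y b' := fun {y} hy =>
      (all_of_invariant h hN hn hb' Λ (fun k hk hkb x hx => ⟨by rw [← hkb, isomGroup_apply]; exact hx.1, by
        have := good_map hM hx.1 hx.2 hk
        rwa [hkb] at this⟩) (show a ∈ Λ from ⟨e', hg'⟩) e' ha0 hy).2
    obtain ⟨z, hz, hzz⟩ := h.exists_anisotropic_perp hN (Submodule.span F {b'}) (by
      rw [finrank_span_singleton (fun e0 : b' = 0 => hb' (by simp [e0])), Module.finrank_fin_fun, hn]; norm_num)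
    have hzb : B b' z = 0 := mem_perp.1 hz b' (Submodule.mem_span_singleton_self b')
    exact ⟨z, b', hzz, hzb, fun e0 => hb' (by simp [e0]), hall hzb⟩
  by_cases hbb : B b b ≠ 0
  · exact ⟨b, hbb, e, hg⟩
  push Not at hbb
  -- both are isotropic
  obtain ⟨f, hff, haf, hbf⟩ : ∃ f, B f f = 0 ∧ B a f = 1 ∧ B b f = 0 := by
    obtain ⟨w, -, -, haw⟩ := h.exists_partner hnd trivial ha0 haa
    obtain ⟨w', -, -, hbw⟩ := h.exists_partner hnd trivial hb0 hbb
    obtain ⟨y, hby, hay⟩ : ∃ y, B b y = 0 ∧ B a y ≠ 0 := by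
      by_contra hall
      push Not at hall
      have hy : ∀ z, B a z = B a w' * B b z := fun z => by
        have := hall (z - B b z • w') (by rw [map_sub, map_smul, hbw, smul_eq_mul, mul_one, sub_self])
        rw [map_sub, map_smul, smul_eq_mul] at this
        linear_combination this
      have hz : a - σ (B a w') • b = 0 := hN _ fun z => h.isRefl _ _ (by
        rw [map_sub, LinearMap.sub_apply, map_smulₛₗ, LinearMap.smul_apply, h.conj.invol, smul_eq_mul, ← hy, sub_self])
      exact one_ne_zero (α := F) (LinearIndependent.pair_iff.1 hi 1 (-σ (B a w'))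
        (by rw [one_smul, neg_smul, ← sub_eq_add_neg, hz])).1
    set y' := (B a y)⁻¹ • y with hy'
    have hay' : B a y' = 1 := by rw [hy', map_smul, smul_eq_mul, inv_mul_cancel₀ hay]
    have hby' : B b y' = 0 := by rw [hy', map_smul, hby, smul_zero]
    clear_value y'
    obtain ⟨c, hc⟩ := h.conj.exists_trace_eq (a := -B y' y') (by rw [map_neg, h.self_fixed])
    refine ⟨y' + c • a, ?_, ?_, ?_⟩
    · rw [h.add_self, h.smul_self c a, haa, map_smul (B y') c a, ← h.symm a y', hay', map_one, smul_eq_mul, mul_one, hc]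
      ring
    · rw [map_add, map_smul, hay', haa, smul_zero, add_zero]
    · rw [map_add, map_smul, hby', e, smul_zero, add_zero]
  obtain ⟨v, hvv, hbv, hav, hfv⟩ : ∃ v, B v v = 0 ∧ B b v = 1 ∧ B a v = 0 ∧ B f v = 0 := by
    obtain ⟨w', -, -, hbw⟩ := h.exists_partner hnd trivial hb0 hbb
    have hfa : B f a = 1 := by rw [← h.symm, haf, map_one]
    set y' := w' - B f w' • a - B a w' • f with hy'
    have h1 : B b y' = 1 := by simp [hy', hbw, e, hbf]
    have h2 : B a y' = 0 := by simp [hy', haa, haf]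
    have h3 : B f y' = 0 := by simp [hy', hfa, hff]
    obtain ⟨c, hc⟩ := h.conj.exists_trace_eq (a := -B y' y') (by rw [map_neg, h.self_fixed])
    refine ⟨y' + c • b, ?_, ?_, ?_, ?_⟩
    · rw [h.add_self, h.smul_self c b, hbb, map_smul (B y') c b, ← h.symm b y', h1, map_one, smul_eq_mul, mul_one, hc]
      ring
    · rw [map_add, map_smul, h1, hbb, smul_zero, add_zero]
    · rw [map_add, map_smul, h2, hab, smul_zero, add_zero]
    · rw [map_add, map_smul, h3, h.isRefl _ _ hbf, smul_zero, add_zero]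
  have hvb : B v b = 1 := by rw [← h.symm, hbv, map_one]
  -- all multiples of `b`
  let Λ : AddSubgroup (Fin n → F) :=
    { carrier := {x | B x a = 0 ∧ GoodPair B M a x}
      zero_mem' := ⟨by simp, good_zero_right a⟩
      add_mem' := fun {u w} hu hw => ⟨by rw [map_add, LinearMap.add_apply, hu.1, hw.1, add_zero],
        good_add_right hu.1 hw.1 hu.2 hw.2⟩
      neg_mem' := fun {u} hu => ⟨by rw [map_neg, LinearMap.neg_apply, hu.1, neg_zero], (good_neg hu.1 hu.2).1⟩ }
  have hsq : ∀ μ : F, (μ * μ) • b ∈ Λ := fun μ => by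
    by_cases hμ : μ = 0
    · rw [hμ, mul_zero, zero_smul]; exact Λ.zero_mem
    set ν := σ μ
    have hν : ν ≠ 0 := fun e0 => hμ (by rw [← h.conj.invol μ, show σ μ = 0 from e0, map_zero])
    obtain ⟨g, hga, -, hgf, hgd⟩ := h.exists_torus hN haa hff haf hν
    obtain ⟨k, hkb, -, hkf, hkd⟩ := h.exists_torus hN hbb hvv hbv hμ
    have hd : idet B (k * g) = 1 := by
      rw [map_mul, hkd, hgd, show σ ν = μ from h.conj.invol μ]
      field_simp
      exact div_self hν
    have hgb : g.1 b = b := hgf b hab (h.isRefl _ _ hbf)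
    have h1 : (k * g).1 a = ν • a := by
      change k.1 (g.1 a) = ν • a
      rw [hga, map_smul, hkf a e (h.isRefl _ _ hav)]
    have h2 : (k * g).1 b = μ • b := by
      change k.1 (g.1 b) = μ • b
      rw [hgb, hkb]
    have := good_map hM e hg hd
    rw [h1, h2] at this
    have h3 := good_scale h (by rw [map_smulₛₗ, LinearMap.smul_apply, e, smul_zero]) this
    rw [show σ ν = μ from h.conj.invol μ, smul_smul] at h3
    exact ⟨by rw [map_smulₛₗ, LinearMap.smul_apply, e, smul_zero], h3⟩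
  have hmul : ∀ l : F, l • b ∈ Λ := fun l => by
    haveI := Fintype.ofFinite F
    by_cases h2 : (2 : F) = 0
    · haveI : CharP F 2 := CharTwo.of_one_ne_zero_of_two_eq_zero one_ne_zero h2
      obtain ⟨μ, rfl⟩ := FiniteField.isSquare_of_char_two (ringChar.eq F 2) l
      exact hsq μ
    · have := Λ.sub_mem (hsq ((l + 1) / 2)) (hsq ((l - 1) / 2))
      convert this using 1
      rw [← sub_smul]
      congr 1
      field_simp
      ring
  obtain ⟨c, hc0, hc⟩ := h.conj.exists_trace_zero
  obtain ⟨t, ht⟩ := h.exists_uTv hN hvv hc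
  have hcv : c • v ∈ Λ := by
    have hta : t.1 a = a := by rw [ht.2.2, h.isRefl _ _ hav, mul_zero, zero_smul, add_zero]
    have h1 := good_map hM e hg (h.idet_uTv ht)
    rw [hta] at h1
    have h2 : t.1 b ∈ Λ := ⟨by
      have := isomGroup_apply t b a
      rw [hta] at this
      rw [this, e], h1⟩
    have h3 := Λ.sub_mem h2 (show b ∈ Λ from ⟨e, hg⟩)
    rwa [ht.2.2, add_sub_cancel_left, hvb, mul_one] at h3
  obtain ⟨τ, hτ⟩ := h.conj.exists_trace_ne_zero
  obtain ⟨he', hg'⟩ : σ (τ / c) • b + c • v ∈ Λ := Λ.add_mem (hmul _) hcv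
  refine ⟨_, ?_, he', hg'⟩
  rw [h.add_self, h.smul_self, h.smul_self, hbb, hvv]
  simp only [map_smulₛₗ, LinearMap.smul_apply, RingHom.id_apply, hbv, h.conj.invol, smul_eq_mul, mul_one, mul_zero,
    zero_add, add_zero]
  rw [mul_div_cancel₀ _ hc0]
  exact hτ

/-- The main theorem. -/
theorem gsim_le_four (hN : B.SeparatingRight) (hn : n = 4) (M : Subgroup (GL (Fin n) F))
    (hM : ∀ t : isomGroup B, idet B t = 1 → linToGL t.1 ∈ M) {g : GL (Fin n) F} (hg : g ∈ M)
    (hgs : ¬ ∃ c : Fˣ, ∀ u v, B ((g : Matrix (Fin n) (Fin n) F) *ᵥ u) ((g : Matrix (Fin n) (Fin n) F) *ᵥ v) = c * B u v) :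
    Cfsg.Geo.specialLinear (Fin n) F ≤ M := by
  classical
  haveI := Fintype.ofFinite F
  obtain ⟨a₀, b₀, hi, e₀, hg₀⟩ := exists_pair h hN (by omega) hM hg hgs
  obtain ⟨a, b, ha, e, hb, hgab⟩ := exists_aniso h hN hn hM hi e₀ hg₀
  have hfull : Full M a := fun f hf => by
    obtain ⟨y, hy⟩ := h.exists_form_eq hN (dotProductBilin F F f)
    have hy' : ∀ x, B y x = f ⬝ᵥ x := hy
    have hya : B y a = 0 := by rw [hy', hf]
    have := full_of_aniso h hN hn hM ha e hb hgab (h.isRefl _ _ hya) (hdot hya)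
    rwa [trGL_congr (h' := hf) fun x => by rw [funVec_dot, hy']] at this
  refine sl_le_of_fullCentres ?_
  set W := fullCentres M
  have hnd : NondegOn B (⊤ : Submodule F (Fin n → F)) :=
    nondegOn_iff.2 fun y _ hy => hN y fun w => hy w trivial
  have hd : 2 ≤ finrank F (⊤ : Submodule F (Fin n → F)) := by rw [finrank_top, Module.finrank_fin_fun]; omega
  obtain ⟨c, hc0, hc⟩ := h.conj.exists_trace_zero
  have step : ∀ {x v : Fin n → F}, x ∈ W → B v v = 0 → B v x ≠ 0 → v ∈ W := fun {x v} hx hvv hvx => by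
    obtain ⟨t, ht⟩ := h.exists_uTv hN hvv hc
    have h1 : (linToGL t.1 : Matrix (Fin n) (Fin n) F) *ᵥ x ∈ W := Full.map hx (hM t (h.idet_uTv ht))
    rw [linToGL_mulVec, ht.2.2] at h1
    have h2 := W.sub_mem h1 hx
    rw [add_sub_cancel_left] at h2
    exact (Submodule.smul_mem_iff W (mul_ne_zero hc0 hvx)).1 h2
  obtain ⟨v₀, hv₀, hva⟩ : ∃ v, B v v = 0 ∧ B v a ≠ 0 := by
    by_contra hall
    push Not at hall
    refine ha ?_
    have key : ∀ u ∈ Submodule.span F {x | x ∈ (⊤ : Submodule F (Fin n → F)) ∧ B x x = 0}, B u a = 0 := fun u hu => by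
      induction hu using Submodule.span_induction with
      | mem u hu => exact hall u hu.2
      | zero => simp
      | add u w _ _ hu hw => simp [hu, hw]
      | smul r u _ hu => simp [hu]
    exact key a (h.le_span_isotropic hnd hd trivial)
  have hv00 : v₀ ≠ 0 := fun e0 => hva (by simp [e0])
  have hv₀W : v₀ ∈ W := step (show a ∈ W from hfull) hv₀ hva
  refine eq_top_iff.2 fun x _ => ?_
  refine (Submodule.span_le (p := W)).2 (fun v hv => ?_) (h.le_span_isotropic hnd hd (Submodule.mem_top (x := x)))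
  by_cases hv0 : v = 0
  · rw [hv0]; exact W.zero_mem
  obtain ⟨z, -, hzz, hz1, hz2⟩ := h.exists_common_nonorth hnd (U := ⊤) trivial trivial hv00 hv0 hv₀ hv.2
  exact step (step hv₀W hzz fun e0 => hz1 (h.isRefl _ _ e0)) hv.2 hz2

end CfsgLib.Classical.GeoFour.UnitFour

namespace CfsgLib.Classical.IsHermitian

open Module Matrix

variable {F : Type*} [Field F] {σ : F →+* F} {n : ℕ} [Finite F] {B : (Fin n → F) →ₛₗ[σ] (Fin n → F) →ₗ[F] F}
  (h : IsHermitian B)
include h

theorem exists_sl_not_similar_four (hN : B.SeparatingRight) (hn : 4 ≤ n) : ∃ g ∈ Cfsg.Geo.specialLinear (Fin n) F,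
    ¬ ∃ c : Fˣ, ∀ u v, B ((g : Matrix (Fin n) (Fin n) F) *ᵥ u) ((g : Matrix (Fin n) (Fin n) F) *ᵥ v) = c * B u v := by
  have hV : finrank F (Fin n → F) = n := Module.finrank_fin_fun F
  have : Nontrivial (Fin n → F) := Module.nontrivial_of_finrank_pos (R := F) (by omega)
  obtain ⟨z, hz⟩ := h.exists_unit hN
  set L := Submodule.span F {z}
  have hL : finrank F L = 1 := finrank_span_singleton fun e => by simp [e] at hz
  obtain ⟨w, hw, -, hww⟩ := h.exists_len_avoid hN L (by omega) (map_one σ)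
  have hzw : B z w = 0 := mem_perp.1 hw z (Submodule.mem_span_singleton_self z)
  have hwz : B w z = 0 := h.isRefl _ _ hzw
  have hd : funVec (B w) ⬝ᵥ z = 0 := by rw [funVec_dot, hwz]
  refine ⟨trGL z (funVec (B w)) hd, trGL_mem_sl _ _ _, fun ⟨c, hc⟩ => ?_⟩
  have := hc z w
  rw [trGL_mulVec, trGL_mulVec, funVec_dot, funVec_dot, hwz, hww] at this
  simp [hz, hzw] at this

end CfsgLib.Classical.IsHermitian
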