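import Cfsg.Agent.Lib.Classical.GeoFour.UnitFour
import Cfsg.Agent.Lib.Classical.GeoMaxSmall.SL

/-!
# Unitary similarity groups are maximal in `SL_4`
-/

set_option autoImplicit false
set_option linter.unusedSectionVars false
set_option linter.unusedSimpArgs false

open Cfsg

namespace CfsgLib.Classical.GeoFour

theorem unitary_maximal {F : Type*} [Field F] [Fintype F] (n : ℕ) (hn : n = 4) (σ : F ≃+* F) (f : (Fin n → F) → (Fin n → F) → F) (hf : Cfsg.Geo.IsUnitaryForm σ f) : Cfsg.Geo.IsMaximalIn (Cfsg.Geo.specialLinear (Fin n) F) (Cfsg.Geo.similarityGroup f ⊓ Cfsg.Geo.specialLinear (Fin n) F) := by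
  let s : F →+* F := σ.toRingHom
  have hconj : CfsgLib.Classical.IsConjugation s := ⟨hf.involutive, fun e => hf.ne_refl (RingEquiv.ext fun x =>
    RingHom.congr_fun e x)⟩
  have haddr : ∀ x y v, f v (x + y) = f v x + f v y := fun x y v => by
    rw [hf.herm v (x + y), hf.add_left, map_add, ← hf.herm, ← hf.herm]
  have hsmulr : ∀ (c : F) x v, f v (c • x) = σ c * f v x := fun c x v => by
    rw [hf.herm v (c • x), hf.smul_left, map_mul, ← hf.herm]
  let B : (Fin n → F) →ₛₗ[s] (Fin n → F) →ₗ[F] F :=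
    LinearMap.mk₂'ₛₗ s (RingHom.id F) (fun x y => f y x) (fun x x' y => haddr x x' y)
      (fun c x y => hsmulr c x y) (fun x y y' => hf.add_left y y' x) (fun c x y => hf.smul_left c y x)
  have hB : CfsgLib.Classical.IsHermitian B := ⟨hconj, fun x y => (hf.herm x y).symm⟩
  have hN : B.SeparatingRight := fun y hy => by
    by_contra hne
    obtain ⟨x, hx⟩ := (hf.nondegenerate y hne).2
    exact hx (hy x)
  have hiff : ∀ g : GL (Fin n) F, g ∈ Cfsg.Geo.similarityGroup f ↔ ∃ c : Fˣ, ∀ u v,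
      B ((g : Matrix (Fin n) (Fin n) F).mulVec u) ((g : Matrix (Fin n) (Fin n) F).mulVec v) = c * B u v := fun g =>
    ⟨fun ⟨c, hc⟩ => ⟨c, fun u v => hc v u⟩, fun ⟨c, hc⟩ => ⟨c, fun u v => hc v u⟩⟩
  refine ⟨lt_of_le_not_ge inf_le_right fun hle => ?_, fun M hM hMS => ?_⟩
  · obtain ⟨g, hg, hgn⟩ := hB.exists_sl_not_similar_four hN (by omega)
    exact hgn ((hiff g).1 (hle hg).1)
  · by_cases hMs : M ≤ Cfsg.Geo.similarityGroup f
    · exact Or.inl (le_antisymm (le_inf hMs hMS) hM)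
    obtain ⟨g, hg, hgs⟩ := SetLike.not_le_iff_exists.1 hMs
    refine Or.inr (le_antisymm hMS (UnitFour.gsim_le_four hB hN hn M (fun t ht => hM ?_) hg fun hc => hgs ((hiff g).2 hc)))
    refine Subgroup.mem_inf.2 ⟨(hiff _).2 ⟨1, fun u v => ?_⟩, CfsgLib.Classical.mem_specialLinear_iff.2 ?_⟩
    · rw [CfsgLib.Classical.linToGL_mulVec, CfsgLib.Classical.linToGL_mulVec, Units.val_one, one_mul]
      exact t.2 u v
    · change (LinearMap.toMatrix' (t.1 : (Fin n → F) →ₗ[F] (Fin n → F))).det = 1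
      rw [LinearMap.det_toMatrix']
      exact ht

end CfsgLib.Classical.GeoFour
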